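import Cfsg.Agent.Omega.NO3S.MidQ.McL
import Mathlib.GroupTheory.PGroup
import Mathlib.GroupTheory.Sylow
import Mathlib.GroupTheory.GroupAction.Quotient
import Mathlib.GroupTheory.GroupAction.Basic
import Mathlib.Algebra.Module.LinearMap.Basic
import Mathlib.LinearAlgebra.Quotient.Basic

/-!
# THEOREM INNER_s (OMEGA, NO-3S, MidQ, `s ≥ 4`; helper621), part F: text (3.2), (3.3); K-free

`H` acts on the elementary abelian 2-group `M` (additive), linearly over `F` on `V`, `π : M → V` (`M / N_b`, or `M`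
itself); `lam i` the line vectors (subgroups of `M`, `F`-lines of `V`, permuted transitively by `H`, spanning `M`, TI,
2-central).

* `FP` : a 2-element has a fixed point on `P / N`;
* `BT H F π lam Φ` : the frame, `Φ i` an `F`-subspace of `Hom (M / lam i, lam i)` with `1 + Φ i` in `H`,
  `|Φ i| > |F|`;
* `BT.mcl` : the frame `McL` of helper475; `BT.Big'`, `BT.dist` : the hypotheses `Big`, `Dist`;
* **`BT.typeN`** : `L` a 2-subgroup normalised by the pointwise stabiliser of `lam i`, contained in it: `[M, L] ≤ lam i`;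
* `BF H F π lam` : the frame without `Φ`; `BF.Phi` the largest `Φ`; `BF.bt`; **`BF.typeN`**, `BF.big_of_two`;
* multiplicative forms (`M` a group of exponent 2, `π (a * b) = π a + π b`): `BM`, `IsTv`, **`BM.typeN`**; line vectors
  `g • lam`: `BO`, `BO.bm`, **`BO.typeN`**.
-/

set_option autoImplicit false
set_option maxHeartbeats 400000

namespace Cfsg.Agent.Omega.NO3S.InnS.BigT

open Cfsg.Agent.Omega.NO3S.MidQ

/-! ### Fixed points -/

section FP

variable {H M : Type*} [Group H] [AddCommGroup M] [DistribMulAction H M]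

theorem iter_two (two : ∀ m : M, m + m = 0) (w : H) (n : ℕ) (m : M) :
    (fun x : M => w • x + x)^[2 ^ n] m = w ^ (2 ^ n) • m + m := by
  induction n generalizing m with
  | zero => simp
  | succ n ih =>
    rw [pow_succ, mul_two, Function.iterate_add_apply, ih, ih, smul_add, ← mul_smul, ← pow_add]
    have h1 := two (w ^ 2 ^ n • m)
    calc w ^ (2 ^ n + 2 ^ n) • m + w ^ 2 ^ n • m + (w ^ 2 ^ n • m + m)
        = w ^ (2 ^ n + 2 ^ n) • m + (w ^ 2 ^ n • m + w ^ 2 ^ n • m) + m := by abel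
      _ = _ := by rw [h1, add_zero]

/-- a 2-element `w` acting on `P` has a fixed point in `P / N` -/
theorem FP (two : ∀ m : M, m + m = 0) {w : H} (hw : ∃ n : ℕ, w ^ (2 ^ n) = 1) {P N : AddSubgroup M}
    (hP : ∀ m ∈ P, w • m ∈ P) {m₀ : M} (h0 : m₀ ∈ P) (h1 : m₀ ∉ N) : ∃ m ∈ P, m ∉ N ∧ w • m + m ∈ N := by
  classical
  obtain ⟨n, hn⟩ := hw
  have hex : ∃ t : ℕ, (fun x : M => w • x + x)^[t] m₀ ∈ N := by
    refine ⟨2 ^ n, ?_⟩
    rw [iter_two two, hn, one_smul, two]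
    exact zero_mem _
  have hP' : ∀ t : ℕ, (fun x : M => w • x + x)^[t] m₀ ∈ P := by
    intro t
    induction t with
    | zero => exact h0
    | succ t ih =>
      rw [Function.iterate_succ_apply']
      exact add_mem (hP _ ih) ih
  have hne : Nat.find hex ≠ 0 := by
    intro e
    have h2 := Nat.find_spec hex
    rw [e] at h2
    exact h1 h2
  obtain ⟨t, ht⟩ := Nat.exists_eq_succ_of_ne_zero hne
  refine ⟨_, hP' t, Nat.find_min hex (by omega), ?_⟩
  have h2 := Nat.find_spec hex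
  rw [ht, Function.iterate_succ_apply'] at h2
  exact h2

end FP

/-! ### Components -/

section Comp

variable {M ι : Type*} [AddCommGroup M] {lam : ι → AddSubgroup M} {Φ : ι → AddSubgroup (AddMonoid.End M)}

/-- `i`, `j` are in one component -/
def Jn (lam : ι → AddSubgroup M) (Φ : ι → AddSubgroup (AddMonoid.End M)) (i j : ι) : Prop :=
  JJ lam Φ i j ∨ lam i = lam j

theorem jj_ne (hm : McL lam Φ) {i j : ι} (h : JJ lam Φ i j) : lam i ≠ lam j := by
  rintro e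
  obtain ⟨φ, hφ, b, hb, h1⟩ := h
  rw [← e] at hb
  exact h1 (hm.ker i φ hφ b hb)

theorem phi_eq (hm : McL lam Φ) {i j : ι} (e : lam i = lam j) : Φ i = Φ j := by
  obtain ⟨a, ha, ha0⟩ := hm.lne i
  exact (hm.same i j a ha (e ▸ ha) ha0).2

theorem jj_of_jn {i j : ι} (h : Jn lam Φ i j) (hne : lam i ≠ lam j) : JJ lam Φ i j := h.resolve_right hne

theorem jn_symm (hm : McL lam Φ) {i j : ι} (h : Jn lam Φ i j) : Jn lam Φ j i :=
  h.elim (fun h => Or.inl (hm.symm h)) fun h => Or.inr h.symm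

theorem jj_congr_left (hm : McL lam Φ) {i i' j : ι} (h : JJ lam Φ i j) (e : lam i = lam i') : JJ lam Φ i' j := by
  obtain ⟨φ, hφ, b, hb, h1⟩ := h
  exact ⟨φ, by rw [← phi_eq hm e]; exact hφ, b, hb, h1⟩

theorem jj_congr_right {i j j' : ι} (h : JJ lam Φ i j) (e : lam j = lam j') : JJ lam Φ i j' := by
  obtain ⟨φ, hφ, b, hb, h1⟩ := h
  exact ⟨φ, hφ, b, e ▸ hb, h1⟩

theorem jn_trans (hm : McL lam Φ) (hB : McL.Big lam Φ) (hD : Dist lam Φ) {i j k : ι} (h : Jn lam Φ i j)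
    (h' : Jn lam Φ j k) : Jn lam Φ i k := by
  rcases h with h | h
  · rcases h' with h' | h'
    · by_cases e : lam i = lam k
      · exact Or.inr e
      · exact Or.inl (hm.trans hB hD h h' e)
    · exact Or.inl (jj_congr_right h h')
  · rcases h' with h' | h'
    · exact Or.inl (jj_congr_left hm h' h.symm)
    · exact Or.inr (h.trans h')

theorem kl_of_not_jn {i j : ι} (h : ¬ Jn lam Φ j i) {φ : AddMonoid.End M} (hφ : φ ∈ Φ j) : Kl lam φ i := by
  intro b hb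
  by_contra h1
  exact h (Or.inl ⟨φ, hφ, b, hb, h1⟩)

/-- the union of the line vectors of the component of `i` -/
def MX (hm : McL lam Φ) (hB : McL.Big lam Φ) (hD : Dist lam Φ) (i : ι) : AddSubgroup M where
  carrier := {m | ∃ l, Jn lam Φ i l ∧ m ∈ lam l}
  zero_mem' := ⟨i, Or.inr rfl, zero_mem _⟩
  add_mem' := by
    rintro a b ⟨l, hl, ha⟩ ⟨m, hm', hb⟩
    by_cases e : lam l = lam m
    · exact ⟨l, hl, add_mem ha (e ▸ hb)⟩
    by_cases hb0 : b = 0
    · exact ⟨l, hl, by rw [hb0, add_zero]; exact ha⟩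
    have h1 : JJ lam Φ l m := jj_of_jn (jn_trans hm hB hD (jn_symm hm hl) hm') e
    obtain ⟨φ, hφ, hφb⟩ := hm.surj l m b hb (hm.moves h1 hb hb0) a ha
    obtain ⟨k, h2, h3⟩ := hm.mv l m φ hφ
    refine ⟨k, ?_, ?_⟩
    · obtain ⟨ψ, hψ, c, hc, hψc⟩ := hm.symm h1
      refine jn_trans hm hB hD hl (jn_symm hm (Or.inl ⟨_, h3 ψ hψ, c, hc, ?_⟩))
      intro h4
      apply hψc
      have h5 : (1 + φ) (ψ ((1 + φ) c)) = 0 := h4
      have h6 : (1 + φ) c = c := by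
        show c + φ c = c
        rw [hm.ker l φ hφ c hc, add_zero]
      rw [h6] at h5
      have h7 : ((1 + φ) * (1 + φ)) (ψ c) = 0 := by
        show (1 + φ) ((1 + φ) (ψ c)) = 0
        rw [h5, map_zero]
      rw [hm.sq_end hφ] at h7
      exact h7
    · have h4 := h2 b hb
      rwa [hφb, add_comm] at h4
  neg_mem' := by
    rintro a ⟨l, hl, ha⟩
    exact ⟨l, hl, neg_mem ha⟩

theorem mem_MX {hm : McL lam Φ} {hB : McL.Big lam Φ} {hD : Dist lam Φ} {i : ι} {m : M} :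
    m ∈ MX hm hB hD i ↔ ∃ l, Jn lam Φ i l ∧ m ∈ lam l := Iff.rfl

/-- `C (Φ j) = lam j` on the component of `j` -/
theorem full {hm : McL lam Φ} {hB : McL.Big lam Φ} {hD : Dist lam Φ} {i j : ι} (hj : Jn lam Φ i j) {m : M}
    (h1 : m ∈ MX hm hB hD i) (h2 : ∀ φ ∈ Φ j, φ m = 0) : m ∈ lam j := by
  obtain ⟨l, hl, hml⟩ := h1
  by_cases hm0 : m = 0
  · rw [hm0]
    exact zero_mem _
  by_cases e : lam j = lam l
  · rw [e]
    exact hml
  obtain ⟨φ, hφ, h3⟩ := hm.moves (jj_of_jn (jn_trans hm hB hD (jn_symm hm hj) hl) e) hml hm0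
  exact absurd (h2 φ hφ) h3

/-- every `φ ∈ Φ j` killing `lam i` kills `lam k`: `lam k ≤ lam i + lam j` -/
theorem le_sup {hm : McL lam Φ} {hB : McL.Big lam Φ} {hD : Dist lam Φ} {i j k : ι} (hij : JJ lam Φ i j)
    (hjk : JJ lam Φ j k) (hkl : ∀ φ ∈ Φ j, Kl lam φ i → Kl lam φ k) {c : M} (hc : c ∈ lam k) :
    ∃ a ∈ lam i, ∃ b ∈ lam j, c = a + b := by
  have := hm.fin
  have h1 : ∀ α : lam i, ∃ γ : lam k, (α : M) + γ ∈ lam j := by
    intro α
    obtain ⟨γ, hγ, h2⟩ := hm.exists_E hB hkl hjk α.2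
    refine ⟨⟨γ, hγ⟩, full (hm := hm) (hB := hB) (hD := hD) (i := i) (Or.inl hij) ?_ h2⟩
    exact add_mem (mem_MX.2 ⟨i, Or.inr rfl, α.2⟩)
      (mem_MX.2 ⟨k, jn_trans hm hB hD (Or.inl hij) (Or.inl hjk), hγ⟩)
  choose f hf using h1
  have hinj : Function.Injective f := by
    intro α β e
    by_contra hne
    have h2 : (α : M) - β ≠ 0 := fun e => hne (Subtype.ext (sub_eq_zero.1 e))
    have h3 := sub_mem (hf α) (hf β)
    rw [e, add_sub_add_right_eq_sub] at h3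
    exact jj_ne hm hij (hm.same i j _ (sub_mem α.2 β.2) h3 h2).1
  have hsurj : Function.Surjective f := by
    have : Fintype (lam i) := Fintype.ofFinite _
    have : Fintype (lam k) := Fintype.ofFinite _
    have h1 := hm.card i k
    rw [Nat.card_eq_fintype_card, Nat.card_eq_fintype_card] at h1
    exact ((Fintype.bijective_iff_injective_and_card f).2 ⟨hinj, h1⟩).2
  obtain ⟨α, hα⟩ := hsurj ⟨c, hc⟩
  have h2 := hf α
  rw [hα] at h2
  refine ⟨α, α.2, α + c, h2, ?_⟩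
  rw [← add_assoc, hm.two, zero_add]

end Comp

/-! ### The frame -/

/-- the frame without `Φ` -/
structure BF (H : Type*) [Group H] (F : Type*) [Field F] {M V ι : Type*} [AddCommGroup M] [DistribMulAction H M]
    [AddCommGroup V] [Module F V] (π : M →+ V) (lam : ι → AddSubgroup M) : Prop where
  two : ∀ m : M, m + m = 0
  lin : ∀ g : H, ∃ L : V →ₗ[F] V, ∀ m, π (g • m) = L (π m)
  line : ∀ i, ∃ l : V, l ≠ 0 ∧ ∀ v : V, (∃ a ∈ lam i, π a = v) ↔ ∃ c : F, v = c • l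
  inj : ∀ i, ∀ a ∈ lam i, π a = 0 → a = 0
  ti : ∀ i j, ∀ a ∈ lam i, a ∈ lam j → a ≠ 0 → lam i = lam j
  span : ∀ N : AddSubgroup M, (∀ i, lam i ≤ N) → ∀ m, m ∈ N
  perm : ∀ (g : H) i, ∃ j, ∀ a ∈ lam i, g • a ∈ lam j
  trans : ∀ i j, ∃ g : H, ∀ a ∈ lam i, g • a ∈ lam j
  syl : ∀ i, ∀ a ∈ lam i, a ≠ 0 → ¬ 2 ∣ (MulAction.stabilizer H a).index

/-- the frame with `Φ` -/
structure BT (H : Type*) [Group H] (F : Type*) [Field F] {M V ι : Type*} [AddCommGroup M] [DistribMulAction H M]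
    [AddCommGroup V] [Module F V] (π : M →+ V) (lam : ι → AddSubgroup M) (Φ : ι → AddSubgroup (AddMonoid.End M)) :
    Prop extends BF H F π lam where
  val : ∀ i, ∀ φ ∈ Φ i, ∀ m, φ m ∈ lam i
  ker : ∀ i, ∀ φ ∈ Φ i, ∀ a ∈ lam i, φ a = 0
  smul : ∀ i, ∀ φ ∈ Φ i, ∀ c : F, ∃ ψ ∈ Φ i, ∀ m, π (ψ m) = c • π (φ m)
  mem : ∀ i, ∀ φ ∈ Φ i, ∃ g : H, ∀ m, g • m = m + φ m
  conj : ∀ (g : H) i j, (∀ a ∈ lam i, g • a ∈ lam j) → ∀ φ ∈ Φ i, ∃ ψ ∈ Φ j, ∀ m, ψ (g • m) = g • φ m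
  big : ∀ i, Nat.card F < Nat.card (Φ i)

variable {H : Type*} [Group H] {F : Type*} [Field F] {M V ι : Type*} [AddCommGroup M] [DistribMulAction H M]
  [AddCommGroup V] [Module F V] {π : M →+ V} {lam : ι → AddSubgroup M} {Φ : ι → AddSubgroup (AddMonoid.End M)}

namespace BF

variable (h : BF H F π lam)
include h

theorem add_eq_zero {a b : M} : a + b = 0 ↔ a = b := by
  constructor
  · intro e
    have h1 := h.two b
    exact add_right_cancel (e.trans h1.symm)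
  · rintro rfl
    exact h.two a

/-- multiples on a line vector -/
theorem exists_smul {i : ι} {a b : M} (ha : a ∈ lam i) (ha0 : a ≠ 0) (hb : b ∈ lam i) : ∃ c : F, π b = c • π a := by
  obtain ⟨l, -, hl⟩ := h.line i
  obtain ⟨x, hx⟩ := (hl (π a)).1 ⟨a, ha, rfl⟩
  obtain ⟨y, hy⟩ := (hl (π b)).1 ⟨b, hb, rfl⟩
  have hx0 : x ≠ 0 := by
    rintro rfl
    rw [zero_smul] at hx
    exact ha0 (h.inj i a ha hx)
  refine ⟨y * x⁻¹, ?_⟩
  rw [hx, hy, smul_smul, mul_assoc, inv_mul_cancel₀ hx0, mul_one]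

theorem exists_mul {i : ι} {a : M} (ha : a ∈ lam i) (c : F) : ∃ b ∈ lam i, π b = c • π a := by
  obtain ⟨l, -, hl⟩ := h.line i
  obtain ⟨x, hx⟩ := (hl (π a)).1 ⟨a, ha, rfl⟩
  exact (hl _).2 ⟨c * x, by rw [hx, smul_smul]⟩

theorem eq_of_pi {i : ι} {a b : M} (ha : a ∈ lam i) (hb : b ∈ lam i) (e : π a = π b) : a = b := by
  have h1 := h.inj i (a - b) (sub_mem ha hb) (by rw [map_sub, e, sub_self])
  exact sub_eq_zero.1 h1

theorem card_lam (i : ι) : Nat.card (lam i) = Nat.card F := by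
  obtain ⟨l, hl0, hl⟩ := h.line i
  have h1 : ∀ a : lam i, ∃ c : F, π a = c • l := fun a => (hl _).1 ⟨a, a.2, rfl⟩
  choose f hf using h1
  refine Nat.card_congr (Equiv.ofBijective f ⟨fun a b e => ?_, fun c => ?_⟩)
  · refine Subtype.ext (h.eq_of_pi a.2 b.2 ?_)
    rw [hf, hf, e]
  · obtain ⟨a, ha, hac⟩ := (hl (c • l)).2 ⟨c, rfl⟩
    refine ⟨⟨a, ha⟩, ?_⟩
    have h2 := hf ⟨a, ha⟩
    rw [show π ((⟨a, ha⟩ : lam i) : M) = c • l from hac] at h2
    have h3 : (c - f ⟨a, ha⟩) • l = 0 := by rw [sub_smul, ← h2, sub_self]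
    rcases smul_eq_zero.1 h3 with h4 | h4
    · exact (sub_eq_zero.1 h4).symm
    · exact absurd h4 hl0

theorem lne (i : ι) : ∃ a ∈ lam i, a ≠ 0 := by
  obtain ⟨l, hl0, hl⟩ := h.line i
  obtain ⟨a, ha, hal⟩ := (hl l).2 ⟨1, (one_smul F l).symm⟩
  refine ⟨a, ha, ?_⟩
  rintro rfl
  rw [map_zero] at hal
  exact hl0 hal.symm

theorem finF [Finite M] [Nonempty ι] : Finite F := by
  obtain ⟨i⟩ := ‹Nonempty ι›
  have h1 := h.card_lam i
  have h2 : 0 < Nat.card (lam i) := Nat.card_pos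
  exact Nat.finite_of_card_ne_zero (by omega)

/-- `g • lam i = lam j` -/
theorem mem_iff [Finite M] {g : H} {i j : ι} (hg : ∀ a ∈ lam i, g • a ∈ lam j) (a : M) : g • a ∈ lam j ↔ a ∈ lam i := by
  refine ⟨fun ha => ?_, hg a⟩
  let f : lam i → lam j := fun x => ⟨g • (x : M), hg x x.2⟩
  have hf : Function.Injective f := fun x y e => Subtype.ext ((smul_left_cancel g) (congrArg Subtype.val e))
  have hf2 : Function.Bijective f := by
    have : Fintype (lam i) := Fintype.ofFinite _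
    have : Fintype (lam j) := Fintype.ofFinite _
    refine (Fintype.bijective_iff_injective_and_card f).2 ⟨hf, ?_⟩
    rw [← Nat.card_eq_fintype_card, ← Nat.card_eq_fintype_card, h.card_lam, h.card_lam]
  obtain ⟨x, hx⟩ := hf2.2 ⟨g • a, ha⟩
  have h1 : g • (x : M) = g • a := congrArg Subtype.val hx
  rw [← smul_left_cancel g h1]
  exact x.2

theorem inv_mem_lam [Finite M] {g : H} {i j : ι} (hg : ∀ a ∈ lam i, g • a ∈ lam j) (a : M) (ha : a ∈ lam j) :
    g⁻¹ • a ∈ lam i := by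
  rw [← h.mem_iff hg, smul_inv_smul]
  exact ha

end BF

namespace BT

variable (h : BT H F π lam Φ)
include h

/-- linearity of `φ` -/
theorem phi_lin {i : ι} {φ : AddMonoid.End M} (hφ : φ ∈ Φ i) {a b : M} {c : F} (e : π b = c • π a) :
    π (φ b) = c • π (φ a) := by
  obtain ⟨g, hg⟩ := h.mem i φ hφ
  obtain ⟨L, hL⟩ := h.lin g
  have h1 : ∀ m, π (φ m) = L (π m) - π m := by
    intro m
    rw [← hL, hg, map_add, add_sub_cancel_left]
  rw [h1, h1, e, map_smul, smul_sub]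

theorem phi_zero {i : ι} {φ : AddMonoid.End M} (hφ : φ ∈ Φ i) {j : ι} {a b : M} (ha : a ∈ lam j) (ha0 : a ≠ 0)
    (hb : b ∈ lam j) (e : φ a = 0) : φ b = 0 := by
  obtain ⟨c, hc⟩ := h.exists_smul ha ha0 hb
  refine h.inj i _ (h.val i φ hφ b) ?_
  rw [h.phi_lin hφ hc, e, map_zero, smul_zero]

theorem cardΦ [Finite M] (i j : ι) : Nat.card (Φ i) = Nat.card (Φ j) := by
  have : Finite (AddMonoid.End M) := DFunLike.finite _
  have key : ∀ i j, Nat.card (Φ i) ≤ Nat.card (Φ j) := by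
    intro i j
    obtain ⟨g, hg⟩ := h.trans i j
    have h1 : ∀ φ : Φ i, ∃ ψ : Φ j, ∀ m, (ψ : AddMonoid.End M) (g • m) = g • (φ : AddMonoid.End M) m := fun φ => by
      obtain ⟨ψ, h2, h3⟩ := h.conj g i j hg φ φ.2
      exact ⟨⟨ψ, h2⟩, h3⟩
    choose f hf using h1
    refine Nat.card_le_card_of_injective f fun φ ψ e => ?_
    ext m
    have h2 := hf φ m
    rw [e, hf ψ m] at h2
    exact (smul_left_cancel g h2).symm
  exact le_antisymm (key i j) (key j i)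

theorem same (i j : ι) (a : M) (ha : a ∈ lam i) (hb : a ∈ lam j) (ha0 : a ≠ 0) : lam i = lam j ∧ Φ i = Φ j := by
  have key : ∀ i j, lam i = lam j → Φ i ≤ Φ j := by
    intro i j e φ hφ
    obtain ⟨ψ, h1, h2⟩ := h.conj 1 i j (fun a ha => by rw [one_smul, ← e]; exact ha) φ hφ
    have h3 : ψ = φ := by
      ext m
      have h4 := h2 m
      rw [one_smul, one_smul] at h4
      exact h4
    rw [← h3]
    exact h1
  have h1 := h.ti i j a ha hb ha0
  exact ⟨h1, le_antisymm (key i j h1) (key j i h1.symm)⟩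

theorem mv [Finite M] (i j : ι) (φ : AddMonoid.End M) (hφ : φ ∈ Φ i) :
    ∃ k, (∀ m ∈ lam j, m + φ m ∈ lam k) ∧ ∀ ψ ∈ Φ j, (1 + φ) * ψ * (1 + φ) ∈ Φ k := by
  obtain ⟨g, hg⟩ := h.mem i φ hφ
  obtain ⟨k, hk⟩ := h.perm g j
  refine ⟨k, fun m hm => by rw [← hg]; exact hk m hm, fun ψ hψ => ?_⟩
  obtain ⟨ψ', h1, h2⟩ := h.conj g j k hk ψ hψ
  have h3 : (1 + φ) * ψ * (1 + φ) = ψ' := by
    ext m
    have e1 : ∀ m : M, g • g • m = m := by
      intro m
      rw [hg, hg, map_add, h.ker i φ hφ _ (h.val i φ hφ m), add_zero, add_assoc, h.two, add_zero]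
    have h4 := h2 (g • m)
    rw [e1] at h4
    rw [h4]
    show (ψ (m + φ m)) + φ (ψ (m + φ m)) = g • ψ (g • m)
    rw [hg, hg]
  rw [h3]
  exact h1

/-- the frame of helper475 -/
theorem mcl [Finite M] : McL lam Φ where
  fin := inferInstance
  two := h.two
  val := h.val
  ker := h.ker
  ti i j φ hφ b hb hb0 e c hc := h.phi_zero hφ hb hb0 hc e
  card i j := by rw [h.card_lam, h.card_lam]
  surj i j b hb := by
    rintro ⟨φ, hφ, hne⟩ a ha
    obtain ⟨c, hc⟩ := h.exists_smul (h.val i φ hφ b) hne ha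
    obtain ⟨ψ, hψ, he⟩ := h.smul i φ hφ c
    exact ⟨ψ, hψ, h.eq_of_pi (h.val i ψ hψ b) ha (by rw [he, hc])⟩
  cardΦ := h.cardΦ
  mv := h.mv
  lne := h.lne
  ne i := by
    by_contra hno
    push Not at hno
    have : Nonempty ι := ⟨i⟩
    have := h.finF
    have h1 : Nat.card (Φ i) ≤ 1 := by
      have : Subsingleton (Φ i) := ⟨fun x y => Subtype.ext (by rw [hno x x.2, hno y y.2])⟩
      exact Finite.card_le_one_iff_subsingleton.2 this
    have h2 := h.big i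
    have h3 : 0 < Nat.card F := Nat.card_pos
    omega
  gen φ hφ := by
    have h1 := h.span φ.ker fun i a ha => hφ i a ha
    ext m
    exact h1 m
  same := h.same

theorem Big' [Finite M] : McL.Big lam Φ := by
  intro i j _
  have : Finite (AddMonoid.End M) := DFunLike.finite _
  obtain ⟨b, hb, hb0⟩ := h.lne j
  let f : Φ i → lam i := fun φ => ⟨(φ : AddMonoid.End M) b, h.val i φ φ.2 b⟩
  have hf : ¬ Function.Injective f := by
    intro hf
    have h1 := Nat.card_le_card_of_injective f hf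
    rw [h.card_lam] at h1
    have h2 := h.big i
    omega
  unfold Function.Injective at hf
  push Not at hf
  obtain ⟨φ, ψ, e, hne⟩ := hf
  have h1 : (φ : AddMonoid.End M) b = (ψ : AddMonoid.End M) b := congrArg Subtype.val e
  refine ⟨φ - ψ, sub_mem φ.2 ψ.2, fun c hc => ?_, fun e' => hne (Subtype.ext (sub_eq_zero.1 e'))⟩
  refine h.phi_zero (sub_mem φ.2 ψ.2) hb hb0 hc ?_
  show (φ : AddMonoid.End M) b - (ψ : AddMonoid.End M) b = 0
  rw [h1, sub_self]

/-! ### (DIST) -/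

omit h in
/-- a fixed point free involution -/
theorem even_card {α : Type*} [Finite α] (σ : α → α) (h1 : ∀ x, σ (σ x) = x) (h2 : ∀ x, σ x ≠ x) :
    2 ∣ Nat.card α := by
  classical
  have : Fintype α := Fintype.ofFinite _
  let e : Function.End α := σ
  have h3 : e ^ 2 ^ 1 = 1 := by
    rw [pow_one, pow_two]
    funext x
    exact h1 x
  have h4 := Equiv.Perm.card_fixedPoints_modEq (p := 2) (n := 1) (f := e) h3
  have h5 : Fintype.card (Function.fixedPoints e) = 0 := by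
    rw [Fintype.card_eq_zero_iff]
    exact ⟨fun x => h2 x x.2⟩
  rw [h5] at h4
  rw [Nat.card_eq_fintype_card]
  exact (Nat.modEq_zero_iff_dvd).1 h4

/-- **(DIST)** -/
theorem dist [Finite H] [Finite M] : Dist lam Φ := by
  intro i j α hα γ hγ hR
  by_contra hne
  have hm := h.mcl
  -- a point moved by `Φ i`, `Φ j`
  have hmoved : ∀ i, ∃ k, JJ lam Φ k i := by
    intro i
    obtain ⟨φ, hφ, hφ0⟩ := hm.ne i
    obtain ⟨k, hk⟩ := hm.exists_not_kl hφ hφ0
    exact ⟨k, hm.symm (hm.jj hφ hk)⟩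
  have hR2 : ∀ k, ∀ φ ∈ Φ k, φ α = φ γ := by
    intro k φ hφ
    have h1 := hR k φ hφ
    rw [map_add, h.add_eq_zero] at h1
    exact h1
  have hα0 : α ≠ 0 := by
    rintro rfl
    have hγ0 : γ ≠ 0 := fun e => hne (by rw [e, add_zero])
    obtain ⟨k, hk⟩ := hmoved j
    obtain ⟨φ, hφ, hφγ⟩ := hm.moves hk hγ hγ0
    exact hφγ (by rw [← hR2 k φ hφ, map_zero])
  have hγ0 : γ ≠ 0 := by
    rintro rfl
    obtain ⟨k, hk⟩ := hmoved i
    obtain ⟨φ, hφ, hφγ⟩ := hm.moves hk hα hα0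
    exact hφγ (by rw [hR2 k φ hφ, map_zero])
  obtain ⟨k, hki⟩ := hmoved i
  have hkj : JJ lam Φ k j := by
    obtain ⟨φ, hφ, h1⟩ := hm.moves hki hα hα0
    exact ⟨φ, hφ, γ, hγ, by rw [← hR2 k φ hφ]; exact h1⟩
  obtain ⟨ξ, hξ, hξ0⟩ := hm.lne k
  obtain ⟨τ, hτ, hτξ⟩ := hm.surj i k ξ hξ (hm.moves (hm.symm hki) hξ hξ0) α hα
  obtain ⟨τ', hτ', hτξ'⟩ := hm.surj j k ξ hξ (hm.moves (hm.symm hkj) hξ hξ0) γ hγ
  obtain ⟨t₁, ht₁⟩ := h.mem i τ hτ
  obtain ⟨t₂, ht₂⟩ := h.mem j τ' hτ'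
  have hτγ : τ γ = 0 := by rw [← hR2 i τ hτ]; exact h.ker i τ hτ α hα
  -- `R₀`
  let R₀ : AddSubgroup M :=
    { carrier := {m | ∀ k, ∀ φ ∈ Φ k, φ m = 0}
      zero_mem' := fun k φ _ => map_zero φ
      add_mem' := fun {a b} ha hb k φ hφ => by rw [map_add, ha k φ hφ, hb k φ hφ, add_zero]
      neg_mem' := fun {a} ha k φ hφ => by rw [map_neg, ha k φ hφ, neg_zero] }
  have hR₀ : ∀ m, m ∈ R₀ ↔ ∀ k, ∀ φ ∈ Φ k, φ m = 0 := fun m => Iff.rfl
  have hR₀H : ∀ g : H, ∀ m ∈ R₀, g • m ∈ R₀ := by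
    intro g m hmm k φ hφ
    obtain ⟨k', hk'⟩ := h.perm g⁻¹ k
    obtain ⟨ψ, h1, h2⟩ := h.conj g⁻¹ k k' hk' φ hφ
    have h3 := h2 (g • m)
    rw [inv_smul_smul, hmm k' ψ h1] at h3
    have h4 := congrArg (fun x => g • x) h3
    simpa using h4.symm
  -- the stabiliser of `ξ + R₀`
  let E : Subgroup H :=
    { carrier := {g | g • ξ + ξ ∈ R₀}
      one_mem' := by
        show (1 : H) • ξ + ξ ∈ R₀
        rw [one_smul, h.two]; exact zero_mem _
      mul_mem' := by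
        intro a b ha hb
        show (a * b) • ξ + ξ ∈ R₀
        have h1 : a • (b • ξ + ξ) ∈ R₀ := hR₀H a _ hb
        have h2 : a • ξ + ξ ∈ R₀ := ha
        have h3 := add_mem h1 h2
        have e : a • (b • ξ + ξ) + (a • ξ + ξ) = (a * b) • ξ + ξ := by
          rw [smul_add, mul_smul]
          have h4 := h.two (a • ξ)
          calc a • b • ξ + a • ξ + (a • ξ + ξ) = a • b • ξ + (a • ξ + a • ξ) + ξ := by abel
            _ = _ := by rw [h4, add_zero]
        rwa [e] at h3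
      inv_mem' := by
        intro a ha
        show a⁻¹ • ξ + ξ ∈ R₀
        have h1 := hR₀H a⁻¹ _ ha
        rw [smul_add, inv_smul_smul, add_comm] at h1
        exact h1 }
  have hE : ∀ g, g ∈ E ↔ g • ξ + ξ ∈ R₀ := fun g => Iff.rfl
  have hle : MulAction.stabilizer H ξ ≤ E := by
    intro g hg
    rw [MulAction.mem_stabilizer_iff] at hg
    rw [hE, hg, h.two]
    exact zero_mem _
  -- the involution
  have hδ : α + γ ∈ R₀ := hR
  have ht : ∀ r ∈ R₀, (t₁ * t₂) • (ξ + r) = ξ + r + (α + γ) := by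
    intro r hr
    rw [mul_smul, ht₂, map_add, hτξ', hr j τ' hτ', add_zero, ht₁, map_add, map_add, hτξ, hr i τ hτ, hτγ]
    abel
  -- the orbit under `E`
  have hcard : Nat.card (MulAction.orbit E ξ) = (MulAction.stabilizer H ξ).relIndex E := by
    rw [← Nat.card_congr (MulAction.orbitEquivQuotientStabilizer E ξ).symm]
    rfl
  have horb : ∀ x ∈ MulAction.orbit E ξ, ∃ r ∈ R₀, x = ξ + r := by
    rintro _ ⟨⟨e, he⟩, rfl⟩
    refine ⟨e • ξ + ξ, he, ?_⟩
    show e • ξ = ξ + (e • ξ + ξ)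
    rw [add_comm (e • ξ), ← add_assoc, h.two, zero_add]
  have htE : t₁ * t₂ ∈ E := by
    rw [hE]
    have h1 := ht 0 (zero_mem _)
    rw [add_zero] at h1
    rw [h1, add_assoc, add_comm, add_assoc, h.two, add_zero]
    exact hδ
  have hev : 2 ∣ Nat.card (MulAction.orbit E ξ) := by
    refine even_card (fun x => ⟨(t₁ * t₂) • (x : M), ?_⟩) (fun x => ?_) fun x e => ?_
    · obtain ⟨e, he⟩ := x.2
      exact ⟨⟨t₁ * t₂, htE⟩ * e, by rw [← he]; exact mul_smul (⟨t₁ * t₂, htE⟩ : E) e ξ⟩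
    · refine Subtype.ext ?_
      show (t₁ * t₂) • (t₁ * t₂) • (x : M) = x
      obtain ⟨r, hr, e⟩ := horb x x.2
      rw [e, ht r hr, add_assoc, ht _ (add_mem hr hδ)]
      have h6 := h.two (α + γ)
      calc ξ + (r + (α + γ)) + (α + γ) = ξ + r + ((α + γ) + (α + γ)) := by abel
        _ = ξ + r := by rw [h6, add_zero]
    · have e' : (t₁ * t₂) • (x : M) = x := congrArg Subtype.val e
      obtain ⟨r, hr, e''⟩ := horb x x.2
      rw [e'', ht r hr] at e'
      exact hne (by simpa using e')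
  rw [hcard] at hev
  have h5 := Subgroup.relIndex_mul_index hle
  exact h.syl k ξ hξ hξ0 (h5 ▸ Dvd.dvd.mul_right hev _)

/-! ### TYPE N -/

theorem jj_conj {g : H} {i j i' j' : ι} (hi : ∀ a ∈ lam i, g • a ∈ lam i') (hj : ∀ a ∈ lam j, g • a ∈ lam j')
    (hij : JJ lam Φ i j) : JJ lam Φ i' j' := by
  obtain ⟨φ, hφ, b, hb, h1⟩ := hij
  obtain ⟨ψ, h2, h3⟩ := h.conj g i i' hi φ hφ
  refine ⟨ψ, h2, g • b, hj b hb, ?_⟩
  rw [h3]
  intro e
  exact h1 ((smul_eq_zero_iff_eq g).1 e)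

/-- a product of two joined transvections has no fixed point -/
theorem key [Finite M] {j k : ι} (hne : lam j ≠ lam k) {φ φ' : AddMonoid.End M} (hφ : φ ∈ Φ j) (hφ' : φ' ∈ Φ k)
    (h1 : ¬ Kl lam φ k) (h2 : ¬ Kl lam φ' j) {w : H} (hw : ∃ n : ℕ, w ^ 2 ^ n = 1)
    (hact : ∀ m ∈ lam j ⊔ lam k, w • m = (1 + φ) ((1 + φ') m)) : False := by
  have hm := h.mcl
  obtain ⟨b, hb, hb0⟩ := h.lne j
  obtain ⟨m, hm1, hm2, hm3⟩ := FP h.two hw (P := lam j ⊔ lam k) (N := ⊥) (fun m hmm => by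
    rw [hact m hmm]
    show (m + φ' m) + φ (m + φ' m) ∈ _
    exact add_mem (add_mem hmm (AddSubgroup.mem_sup_right (h.val k φ' hφ' m)))
      (AddSubgroup.mem_sup_left (h.val j φ hφ _))) (AddSubgroup.mem_sup_left hb) (by simpa using hb0)
  rw [AddSubgroup.mem_bot] at hm2 hm3
  rw [h.add_eq_zero, hact m hm1] at hm3
  have e1 : (1 + φ') m = (1 + φ) m := by
    have e2 : ((1 + φ) * (1 + φ)) ((1 + φ') m) = (1 + φ) m := by
      show (1 + φ) ((1 + φ) ((1 + φ') m)) = _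
      rw [hm3]
    rw [hm.sq_end hφ] at e2
    exact e2
  have e2 : φ' m = φ m := add_left_cancel (a := m) e1
  have e3 : φ m = 0 := by
    by_contra h3
    exact hne (h.ti j k _ (h.val j φ hφ m) (e2 ▸ h.val k φ' hφ' m) h3)
  rw [e3] at e2
  obtain ⟨x, hx, y, hy, rfl⟩ := AddSubgroup.mem_sup.1 hm1
  rw [map_add, h.ker j φ hφ x hx, zero_add] at e3
  rw [map_add, h.ker k φ' hφ' y hy, add_zero] at e2
  have hy0 : y = 0 := by
    by_contra h3
    exact h1 (hm.kl_of hφ hy h3 e3)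
  have hx0 : x = 0 := by
    by_contra h3
    exact h2 (hm.kl_of hφ' hx h3 e2)
  exact hm2 (by rw [hx0, hy0, add_zero])

theorem smul_inv {i : ι} {φ : AddMonoid.End M} (hφ : φ ∈ Φ i) {t : H} (ht : ∀ m : M, t • m = m + φ m) (m : M) :
    t⁻¹ • m = m + φ m := by
  have e : t • (m + φ m) = m := by
    rw [ht, map_add, h.ker i φ hφ _ (h.val i φ hφ m), add_zero, add_assoc, h.two, add_zero]
  rw [inv_smul_eq_iff]
  exact e.symm

/-- the commutator of `1 + φ` and `g` -/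
theorem twist {g : H} {j k : ι} (hg : ∀ a ∈ lam j, g • a ∈ lam k) {φ : AddMonoid.End M} (hφ : φ ∈ Φ j) {t : H}
    (ht : ∀ m : M, t • m = m + φ m) : ∃ φ' ∈ Φ k, (∀ m, φ' (g • m) = g • φ m) ∧
      ∀ m, (t * g * t⁻¹ * g⁻¹) • m = (1 + φ) ((1 + φ') m) := by
  obtain ⟨φ', h1, h2⟩ := h.conj g j k hg φ hφ
  refine ⟨φ', h1, h2, fun m => ?_⟩
  rw [mul_smul, mul_smul, mul_smul, h.smul_inv hφ ht, smul_add, ← h2, smul_inv_smul, ht]
  rfl

section Main

variable {i : ι} {L : Subgroup H} (hL : IsPGroup 2 L)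
  (hn : ∀ c : H, (∀ a ∈ lam i, c • a = a) → ∀ g ∈ L, c * g * c⁻¹ ∈ L)

omit h in
theorem two_el (hL : IsPGroup 2 L) {g : H} (hg : g ∈ L) : ∃ n : ℕ, g ^ 2 ^ n = 1 := by
  obtain ⟨n, hn⟩ := hL ⟨g, hg⟩
  exact ⟨n, by simpa using congrArg Subtype.val hn⟩

include hL hn

theorem step [Finite M] {g : H} (hg : g ∈ L) {j k k' : ι} (hk : ∀ a ∈ lam j, g • a ∈ lam k)
    (hk' : ∀ a ∈ lam j, g⁻¹ • a ∈ lam k') (hne : lam j ≠ lam k) :
    (∀ φ ∈ Φ j, Kl lam φ i → Kl lam φ k) ∨ ∀ φ ∈ Φ j, Kl lam φ i → Kl lam φ k' := by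
  by_contra hcon
  push Not at hcon
  obtain ⟨⟨φ₁, h1, h2, h3⟩, φ₂, h4, h5, h6⟩ := hcon
  obtain ⟨φ, hφ, hφi, hφk, hφk'⟩ : ∃ φ ∈ Φ j, Kl lam φ i ∧ ¬ Kl lam φ k ∧ ¬ Kl lam φ k' := by
    by_cases h7 : Kl lam φ₁ k'
    · by_cases h8 : Kl lam φ₂ k
      · refine ⟨φ₁ + φ₂, add_mem h1 h4, fun b hb => ?_, fun h9 => h3 fun b hb => ?_, fun h9 => h6 fun b hb => ?_⟩
        · show φ₁ b + φ₂ b = 0
          rw [h2 b hb, h5 b hb, add_zero]
        · have h10 : φ₁ b + φ₂ b = 0 := h9 b hb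
          rwa [h8 b hb, add_zero] at h10
        · have h10 : φ₁ b + φ₂ b = 0 := h9 b hb
          rwa [h7 b hb, zero_add] at h10
      · exact ⟨φ₂, h4, h5, h8, h6⟩
    · exact ⟨φ₁, h1, h2, h3, h7⟩
  obtain ⟨t, ht⟩ := h.mem j φ hφ
  obtain ⟨φ', h7, h8, h9⟩ := h.twist hk hφ ht
  have hw : t * g * t⁻¹ * g⁻¹ ∈ L :=
    mul_mem (hn t (fun a ha => by rw [ht, hφi a ha, add_zero]) g hg) (inv_mem hg)
  refine h.key hne hφ h7 hφk (fun h10 => hφk' fun b hb => ?_) (two_el hL hw) fun m _ => h9 m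
  have h11 : g • b ∈ lam j := by
    rw [← h.mem_iff hk', inv_smul_smul]
    exact hb
  have h12 := h10 _ h11
  rw [h8] at h12
  exact (smul_eq_zero_iff_eq g).1 h12

/-- a component not containing `lam i` : `L` fixes its line vectors -/
theorem caseA [Finite H] [Finite M] {g : H} (hg : g ∈ L) {j : ι} (hj : ¬ Jn lam Φ i j) {a : M} (ha : a ∈ lam j) :
    g • a = a := by
  have hm := h.mcl
  have hB := h.Big'
  have hD := h.dist
  obtain ⟨k, hk⟩ := h.perm g j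
  obtain ⟨k', hk'⟩ := h.perm g⁻¹ j
  have hkl : ∀ {l}, ¬ Jn lam Φ i l → ∀ φ ∈ Φ l, Kl lam φ i := fun hl φ hφ =>
    kl_of_not_jn (fun h1 => hl (jn_symm hm h1)) hφ
  have e : lam j = lam k := by
    by_contra hne
    by_cases hjk : JJ lam Φ j k
    · have hjk' : JJ lam Φ j k' :=
        h.jj_conj (g := g⁻¹) (fun a ha => h.inv_mem_lam hk a ha) hk' (hm.symm hjk)
      rcases h.step hL hn hg hk hk' hne with h1 | h1
      · obtain ⟨φ, hφ, b, hb, h2⟩ := hjk
        exact h2 (h1 φ hφ (hkl hj φ hφ) b hb)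
      · obtain ⟨φ, hφ, b, hb, h2⟩ := hjk'
        exact h2 (h1 φ hφ (hkl hj φ hφ) b hb)
    · have hjk : ¬ Jn lam Φ j k := fun h1 => h1.elim hjk hne
      obtain ⟨φ₀, hφ₀, hφ₀0⟩ := hm.ne j
      obtain ⟨l, hl⟩ := hm.exists_not_kl hφ₀ hφ₀0
      have hjl : JJ lam Φ j l := hm.jj hφ₀ hl
      obtain ⟨l', hl'⟩ := h.perm g l
      have hkl' : JJ lam Φ k l' := h.jj_conj hk hl' hjl
      obtain ⟨ψ, hψ, c, hc, hψc⟩ := hm.symm hjl
      have hil : ¬ Jn lam Φ i l := fun h1 => hj (jn_trans hm hB hD h1 (Or.inl (hm.symm hjl)))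
      obtain ⟨t₁, ht₁⟩ := h.mem j φ₀ hφ₀
      obtain ⟨t₂, ht₂⟩ := h.mem l ψ hψ
      have T : ∀ {x y z}, Jn lam Φ x y → Jn lam Φ y z → Jn lam Φ x z := jn_trans hm hB hD
      have S : ∀ {x y}, Jn lam Φ x y → Jn lam Φ y x := jn_symm hm
      have n1 : ¬ Jn lam Φ k j := fun h1 => hjk (S h1)
      have n2 : ¬ Jn lam Φ k l := fun h1 => n1 (T h1 (S (Or.inl hjl)))
      have n3 : ¬ Jn lam Φ l' j := fun h1 => n1 (T (Or.inl hkl') h1)
      have n4 : ¬ Jn lam Φ l' l := fun h1 => n2 (T (Or.inl hkl') h1)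
      obtain ⟨φ', h1, h2⟩ := h.conj g j k hk φ₀ hφ₀
      obtain ⟨ψ', h3, h4⟩ := h.conj g l l' hl' ψ hψ
      have hfix : ∀ a ∈ lam i, (t₁ * t₂) • a = a := by
        intro a ha
        rw [mul_smul, ht₂, hkl hil ψ hψ a ha, add_zero, ht₁, hkl hj φ₀ hφ₀ a ha, add_zero]
      have hw : (t₁ * t₂) * g * (t₁ * t₂)⁻¹ * g⁻¹ ∈ L := mul_mem (hn _ hfix g hg) (inv_mem hg)
      refine h.key (jj_ne hm hjl) hφ₀ hψ hl (fun h5 => hψc (h5 c hc)) (two_el hL hw) fun m hmm => ?_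
      have h5 : ∀ φ ∈ Φ k, φ m = 0 := by
        intro φ hφ
        obtain ⟨x, hx, y, hy, rfl⟩ := AddSubgroup.mem_sup.1 hmm
        rw [map_add, kl_of_not_jn n1 hφ x hx, kl_of_not_jn n2 hφ y hy, add_zero]
      have h6 : ∀ φ ∈ Φ l', φ m = 0 := by
        intro φ hφ
        obtain ⟨x, hx, y, hy, rfl⟩ := AddSubgroup.mem_sup.1 hmm
        rw [map_add, kl_of_not_jn n3 hφ x hx, kl_of_not_jn n4 hφ y hy, add_zero]
      have h7 : g • (t₁ * t₂)⁻¹ • g⁻¹ • m = m := by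
        have e1 : φ₀ (g⁻¹ • m) = 0 := by
          have := h2 (g⁻¹ • m)
          rw [smul_inv_smul, h5 φ' h1] at this
          exact (smul_eq_zero_iff_eq g).1 this.symm
        have e2 : ψ (g⁻¹ • m) = 0 := by
          have := h4 (g⁻¹ • m)
          rw [smul_inv_smul, h6 ψ' h3] at this
          exact (smul_eq_zero_iff_eq g).1 this.symm
        rw [mul_inv_rev, mul_smul, h.smul_inv hφ₀ ht₁, e1, add_zero, h.smul_inv hψ ht₂, e2, add_zero, smul_inv_smul]
      rw [mul_smul, mul_smul, mul_smul _ g, h7, mul_smul, ht₂, ht₁]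
      rfl
  -- a fixed point, and linearity
  have hPj : ∀ m ∈ lam j, g • m ∈ lam j := fun m hmm => by rw [e]; exact hk m hmm
  obtain ⟨b, hb, hb0⟩ := h.lne j
  obtain ⟨m, h1, h2, h3⟩ := FP h.two (two_el hL hg) (P := lam j) (N := ⊥) hPj hb (by simpa using hb0)
  rw [AddSubgroup.mem_bot] at h2 h3
  rw [h.add_eq_zero] at h3
  obtain ⟨c, hc⟩ := h.exists_smul h1 h2 ha
  obtain ⟨A, hA⟩ := h.lin g
  refine h.eq_of_pi (hPj a ha) ha ?_
  rw [hA, hc, map_smul, ← hA, h3]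

omit hn in
/-- a fixed point on `(lam i + lam j) / lam i` -/
theorem fpB (hLi : ∀ g ∈ L, ∀ a ∈ lam i, g • a = a) {g : H} (hg : g ∈ L) {j k : ι} (hne : lam i ≠ lam j)
    (hk : ∀ a ∈ lam j, g • a ∈ lam k) (hle : ∀ c ∈ lam k, ∃ a ∈ lam i, ∃ b ∈ lam j, c = a + b) :
    ∃ a ∈ lam j, a ≠ 0 ∧ g • a + a ∈ lam i := by
  obtain ⟨b, hb, hb0⟩ := h.lne j
  have h0 : b ∉ lam i := fun hb' => hne (h.ti i j b hb' hb hb0)
  obtain ⟨m, h1, h2, h3⟩ := FP h.two (two_el hL hg) (P := lam j ⊔ lam i) (N := lam i) (fun m hmm => by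
    obtain ⟨y, hy, x, hx, rfl⟩ := AddSubgroup.mem_sup.1 hmm
    obtain ⟨x', hx', y', hy', e⟩ := hle _ (hk y hy)
    rw [smul_add, e, hLi g hg x hx]
    exact add_mem (add_mem (AddSubgroup.mem_sup_right hx') (AddSubgroup.mem_sup_left hy'))
      (AddSubgroup.mem_sup_right hx)) (AddSubgroup.mem_sup_left hb) h0
  obtain ⟨y, hy, x, hx, rfl⟩ := AddSubgroup.mem_sup.1 h1
  refine ⟨y, hy, fun e => h2 (by rw [e, zero_add]; exact hx), ?_⟩
  have e : g • (y + x) + (y + x) = g • y + y := by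
    rw [smul_add, hLi g hg x hx]
    have h4 := h.two x
    calc g • y + x + (y + x) = g • y + y + (x + x) := by abel
      _ = _ := by rw [h4, add_zero]
  rwa [e] at h3

/-- the component of `lam i` -/
theorem caseB [Finite H] [Finite M] (hLi : ∀ g ∈ L, ∀ a ∈ lam i, g • a = a) {g : H} (hg : g ∈ L) {j : ι}
    (hij : JJ lam Φ i j) {b : M} (hb : b ∈ lam j) : g • b + b ∈ lam i := by
  have hm := h.mcl
  have hB := h.Big'
  have hD := h.dist
  have hne := jj_ne hm hij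
  obtain ⟨k, hk⟩ := h.perm g j
  obtain ⟨k', hk'⟩ := h.perm g⁻¹ j
  have T : ∀ {x y z}, Jn lam Φ x y → Jn lam Φ y z → Jn lam Φ x z := jn_trans hm hB hD
  have S : ∀ {x y}, Jn lam Φ x y → Jn lam Φ y x := jn_symm hm
  have hik : JJ lam Φ i k := h.jj_conj (g := g) (fun a ha => by rw [hLi g hg a ha]; exact ha) hk hij
  have hik' : JJ lam Φ i k' :=
    h.jj_conj (g := g⁻¹) (fun a ha => by rw [hLi g⁻¹ (inv_mem hg) a ha]; exact ha) hk' hij
  have hle0 : ∀ {x}, lam j = lam x → ∀ c ∈ lam x, ∃ a ∈ lam i, ∃ b ∈ lam j, c = a + b := fun e c hc =>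
    ⟨0, zero_mem _, c, by rw [e]; exact hc, (zero_add c).symm⟩
  have hle1 : ∀ {x}, JJ lam Φ i x → (∀ φ ∈ Φ j, Kl lam φ i → Kl lam φ x) →
      ∀ c ∈ lam x, ∃ a ∈ lam i, ∃ b ∈ lam j, c = a + b := by
    intro x hx hkl c hc
    by_cases e : lam j = lam x
    · exact hle0 e c hc
    · exact le_sup (hm := hm) (hB := hB) (hD := hD) hij (jj_of_jn (T (S (Or.inl hij)) (Or.inl hx)) e) hkl hc
  obtain ⟨a, ha, ha0, hα⟩ : ∃ a ∈ lam j, a ≠ 0 ∧ g • a + a ∈ lam i := by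
    by_cases e : lam j = lam k
    · exact h.fpB hL hLi hg hne hk (hle0 e)
    rcases h.step hL hn hg hk hk' e with h1 | h1
    · exact h.fpB hL hLi hg hne hk (hle1 hik h1)
    · obtain ⟨a, ha, ha0, h2⟩ := h.fpB hL hLi (inv_mem hg) hne hk' (hle1 hik' h1)
      refine ⟨a, ha, ha0, ?_⟩
      have h3 := hLi g hg _ h2
      rw [smul_add, smul_inv_smul, add_comm] at h3
      rw [h3]
      exact h2
  obtain ⟨c, hc⟩ := h.exists_smul ha ha0 hb
  obtain ⟨α', hα', hα'e⟩ := h.exists_mul hα c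
  obtain ⟨A, hA⟩ := h.lin g
  have h1 : π (g • b + b - α') = 0 := by
    rw [map_sub, map_add, hA, hc, map_smul, ← hA, hα'e, map_add, smul_add, sub_self]
  have h2 : g • b + b - α' ∈ MX hm hB hD i :=
    sub_mem (add_mem (mem_MX.2 ⟨k, Or.inl hik, hk b hb⟩) (mem_MX.2 ⟨j, Or.inl hij, hb⟩))
      (mem_MX.2 ⟨i, Or.inr rfl, hα'⟩)
  obtain ⟨l, -, hl⟩ := mem_MX.1 h2
  have h3 := h.inj l _ hl h1
  rw [sub_eq_zero.1 h3]
  exact hα'

/-- **(3.3)** `[M, L] ≤ lam i` for every normal 2-subgroup `L` of the pointwise stabiliser of `lam i` -/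
theorem typeN [Finite H] [Finite M] (hLi : ∀ g ∈ L, ∀ a ∈ lam i, g • a = a) {g : H} (hg : g ∈ L) (m : M) :
    g • m + m ∈ lam i := by
  let N : AddSubgroup M :=
    { carrier := {m | g • m + m ∈ lam i}
      zero_mem' := by
        show g • (0 : M) + 0 ∈ lam i
        rw [smul_zero, add_zero]
        exact zero_mem _
      add_mem' := by
        intro a b ha hb
        show g • (a + b) + (a + b) ∈ lam i
        rw [smul_add, add_add_add_comm]
        exact add_mem ha hb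
      neg_mem' := by
        intro a ha
        show g • (-a) + (-a) ∈ lam i
        rw [smul_neg, ← neg_add]
        exact neg_mem ha }
  refine h.span N (fun j a ha => ?_) m
  show g • a + a ∈ lam i
  by_cases hj : Jn lam Φ i j
  · rcases hj with hj | hj
    · exact h.caseB hL hn hLi hg hj ha
    · rw [hLi g hg a (by rw [hj]; exact ha), h.two]
      exact zero_mem _
  · rw [h.caseA hL hn hg hj ha, h.two]
    exact zero_mem _

end Main

end BT

/-! ### The largest `Φ` -/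

namespace BF

variable (h : BF H F π lam)
include h

/-- the largest `F`-subspace of the transvections with centre `lam i` -/
def Phi (i : ι) : AddSubgroup (AddMonoid.End M) where
  carrier := {φ | (∀ m, φ m ∈ lam i) ∧ (∀ a ∈ lam i, φ a = 0) ∧
    ∀ c : F, ∃ g : H, ∀ m, g • m + m ∈ lam i ∧ π (g • m + m) = c • π (φ m)}
  zero_mem' := ⟨fun m => zero_mem _, fun a _ => rfl, fun c => ⟨1, fun m => by
    rw [one_smul, h.two]
    exact ⟨zero_mem _, by rw [map_zero]; show (0 : V) = c • π 0; rw [map_zero, smul_zero]⟩⟩⟩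
  add_mem' := by
    rintro φ ψ ⟨h1, h2, h3⟩ ⟨h4, h5, h6⟩
    refine ⟨fun m => add_mem (h1 m) (h4 m), fun a ha => ?_, fun c => ?_⟩
    · show φ a + ψ a = 0
      rw [h2 a ha, h5 a ha, add_zero]
    · obtain ⟨g₁, hg₁⟩ := h3 c
      obtain ⟨g₂, hg₂⟩ := h6 c
      have h7 : ∀ a ∈ lam i, g₁ • a = a := by
        intro a ha
        obtain ⟨h8, h9⟩ := hg₁ a
        rw [h2 a ha, map_zero, smul_zero] at h9
        exact (h.add_eq_zero).1 (h.inj i _ h8 h9)
      refine ⟨g₁ * g₂, fun m => ?_⟩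
      have e : (g₁ * g₂) • m + m = (g₂ • m + m) + (g₁ • m + m) := by
        have h8 := h7 _ (hg₂ m).1
        rw [smul_add, ← mul_smul] at h8
        rw [← h8]
        have h9 := h.two (g₁ • m)
        calc (g₁ * g₂) • m + m = (g₁ * g₂) • m + 0 + m := by rw [add_zero]
          _ = (g₁ * g₂) • m + (g₁ • m + g₁ • m) + m := by rw [h9]
          _ = _ := by abel
      rw [e]
      refine ⟨add_mem (hg₂ m).1 (hg₁ m).1, ?_⟩
      rw [map_add, (hg₂ m).2, (hg₁ m).2, ← smul_add, ← map_add, add_comm]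
      rfl
  neg_mem' := by
    rintro φ ⟨h1, h2, h3⟩
    have e : -φ = φ := by
      ext m
      show -(φ m) = φ m
      rw [neg_eq_iff_add_eq_zero]
      exact h.two _
    rw [e]
    exact ⟨h1, h2, h3⟩

theorem mem_Phi {i : ι} {φ : AddMonoid.End M} : φ ∈ h.Phi i ↔ (∀ m, φ m ∈ lam i) ∧ (∀ a ∈ lam i, φ a = 0) ∧
    ∀ c : F, ∃ g : H, ∀ m, g • m + m ∈ lam i ∧ π (g • m + m) = c • π (φ m) := Iff.rfl

theorem Phi_smul {i : ι} {φ : AddMonoid.End M} (hφ : φ ∈ h.Phi i) (c : F) :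
    ∃ ψ ∈ h.Phi i, ∀ m, π (ψ m) = c • π (φ m) := by
  obtain ⟨h1, h2, h3⟩ := h.mem_Phi.1 hφ
  obtain ⟨g, hg⟩ := h3 c
  let ψ : AddMonoid.End M := AddMonoidHom.mk' (fun m => g • m + m) fun a b => by
    rw [smul_add, add_add_add_comm]
  refine ⟨ψ, h.mem_Phi.2 ⟨fun m => (hg m).1, fun a ha => ?_, fun c' => ?_⟩, fun m => (hg m).2⟩
  · have h4 := (hg a).2
    rw [h2 a ha, map_zero, smul_zero] at h4
    exact h.inj i _ (hg a).1 h4
  · obtain ⟨g', hg'⟩ := h3 (c' * c)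
    refine ⟨g', fun m => ⟨(hg' m).1, ?_⟩⟩
    show π (g' • m + m) = c' • π (g • m + m)
    rw [(hg' m).2, (hg m).2, smul_smul]

theorem Phi_act {i : ι} {φ : AddMonoid.End M} (hφ : φ ∈ h.Phi i) : ∃ g : H, ∀ m, g • m = m + φ m := by
  obtain ⟨h1, h2, h3⟩ := h.mem_Phi.1 hφ
  obtain ⟨g, hg⟩ := h3 1
  refine ⟨g, fun m => ?_⟩
  have h4 : g • m + m = φ m := h.eq_of_pi (hg m).1 (h1 m) (by rw [(hg m).2, one_smul])
  rw [← h4, add_comm, add_assoc, h.two, add_zero]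

theorem Phi_conj [Finite M] (g : H) (i j : ι) (hg : ∀ a ∈ lam i, g • a ∈ lam j) (φ : AddMonoid.End M)
    (hφ : φ ∈ h.Phi i) : ∃ ψ ∈ h.Phi j, ∀ m, ψ (g • m) = g • φ m := by
  obtain ⟨h1, h2, h3⟩ := h.mem_Phi.1 hφ
  let ψ : AddMonoid.End M := AddMonoidHom.mk' (fun m => g • φ (g⁻¹ • m)) fun a b => by
    rw [smul_add, map_add, smul_add]
  refine ⟨ψ, h.mem_Phi.2 ⟨fun m => hg _ (h1 _), fun a ha => ?_, fun c => ?_⟩, fun m => ?_⟩
  · show g • φ (g⁻¹ • a) = 0
    rw [h2 _ (h.inv_mem_lam hg a ha), smul_zero]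
  · obtain ⟨g₁, hg₁⟩ := h3 c
    refine ⟨g * g₁ * g⁻¹, fun m => ?_⟩
    have e : (g * g₁ * g⁻¹) • m + m = g • (g₁ • (g⁻¹ • m) + g⁻¹ • m) := by
      rw [smul_add, smul_inv_smul, mul_smul, mul_smul]
    rw [e]
    refine ⟨hg _ (hg₁ _).1, ?_⟩
    obtain ⟨A, hA⟩ := h.lin g
    show π (g • (g₁ • (g⁻¹ • m) + g⁻¹ • m)) = c • π (g • φ (g⁻¹ • m))
    rw [hA, (hg₁ _).2, map_smul, ← hA]
  · show g • φ (g⁻¹ • g • m) = g • φ m
    rw [inv_smul_smul]

theorem card_Phi [Finite M] (i j : ι) : Nat.card (h.Phi i) = Nat.card (h.Phi j) := by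
  have : Finite (AddMonoid.End M) := DFunLike.finite _
  have key : ∀ i j, Nat.card (h.Phi i) ≤ Nat.card (h.Phi j) := by
    intro i j
    obtain ⟨g, hg⟩ := h.trans i j
    have h1 : ∀ φ : h.Phi i, ∃ ψ : h.Phi j, ∀ m, (ψ : AddMonoid.End M) (g • m) = g • (φ : AddMonoid.End M) m :=
      fun φ => by
        obtain ⟨ψ, h2, h3⟩ := h.Phi_conj g i j hg φ φ.2
        exact ⟨⟨ψ, h2⟩, h3⟩
    choose f hf using h1
    refine Nat.card_le_card_of_injective f fun φ ψ e => ?_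
    ext m
    have h2 := hf φ m
    rw [e, hf ψ m] at h2
    exact (smul_left_cancel g h2).symm
  exact le_antisymm (key i j) (key j i)

/-- the frame with the largest `Φ` -/
theorem bt [Finite M] (hbig : ∃ i, Nat.card F < Nat.card (h.Phi i)) : BT H F π lam h.Phi where
  toBF := h
  val _ _ hφ := (h.mem_Phi.1 hφ).1
  ker _ _ hφ := (h.mem_Phi.1 hφ).2.1
  smul _ _ hφ c := h.Phi_smul hφ c
  mem _ _ hφ := h.Phi_act hφ
  conj := h.Phi_conj
  big i := by
    obtain ⟨j, hj⟩ := hbig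
    rwa [h.card_Phi i j]

/-- dimension `≥ 2` -/
theorem big_of_two [Finite M] {i : ι} {φ ψ : AddMonoid.End M} (hφ : φ ∈ h.Phi i) (hψ : ψ ∈ h.Phi i) (hψ0 : ψ ≠ 0)
    (hind : ∀ c : F, ∃ m, π (φ m) ≠ c • π (ψ m)) : Nat.card F < Nat.card (h.Phi i) := by
  have : Finite (AddMonoid.End M) := DFunLike.finite _
  have : Nonempty ι := ⟨i⟩
  have := h.finF
  have h1 : ∀ c : F, ∃ χ : h.Phi i, ∀ m, π ((χ : AddMonoid.End M) m) = c • π (ψ m) := fun c => by
    obtain ⟨χ, h2, h3⟩ := h.Phi_smul hψ c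
    exact ⟨⟨χ, h2⟩, h3⟩
  choose f hf using h1
  have hinj : Function.Injective f := by
    intro c d e
    obtain ⟨m, hm⟩ : ∃ m, ψ m ≠ 0 := by
      by_contra hno
      push Not at hno
      exact hψ0 (by ext m; exact hno m)
    have h2 := hf c m
    rw [e, hf d m] at h2
    have h3 : (d - c) • π (ψ m) = 0 := by rw [sub_smul, h2, sub_self]
    rcases smul_eq_zero.1 h3 with h4 | h4
    · exact (sub_eq_zero.1 h4).symm
    · exact absurd (h.inj i _ ((h.mem_Phi.1 hψ).1 m) h4) hm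
  have hns : (⟨φ, hφ⟩ : h.Phi i) ∉ Set.range f := by
    rintro ⟨c, hc⟩
    obtain ⟨m, hm⟩ := hind c
    apply hm
    rw [← hf c m, hc]
  have : Fintype F := Fintype.ofFinite _
  have : Fintype (h.Phi i) := Fintype.ofFinite _
  rw [Nat.card_eq_fintype_card, Nat.card_eq_fintype_card]
  exact Fintype.card_lt_of_injective_of_notMem f hinj hns

/-- **TYPE N**, the largest `Φ` -/
theorem typeN [Finite H] [Finite M] (hbig : ∃ i, Nat.card F < Nat.card (h.Phi i)) {i : ι} {L : Subgroup H}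
    (hL : IsPGroup 2 L) (hLi : ∀ g ∈ L, ∀ a ∈ lam i, g • a = a)
    (hn : ∀ c : H, (∀ a ∈ lam i, c • a = a) → ∀ g ∈ L, c * g * c⁻¹ ∈ L) {g : H} (hg : g ∈ L) (m : M) :
    g • m + m ∈ lam i := (h.bt hbig).typeN hL hn hLi hg m

end BF

/-! ### The multiplicative form -/

section Mul

/-- the frame `BF` for a multiplicative group `M` of exponent 2 -/
structure BM (H : Type*) [Group H] (F : Type*) [Field F] {M V ι : Type*} [Group M] [MulDistribMulAction H M]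
    [AddCommGroup V] [Module F V] (π : M → V) (lam : ι → Subgroup M) : Prop where
  sq : ∀ m : M, m * m = 1
  mul : ∀ a b : M, π (a * b) = π a + π b
  lin : ∀ g : H, ∃ L : V →ₗ[F] V, ∀ m, π (g • m) = L (π m)
  line : ∀ i, ∃ l : V, l ≠ 0 ∧ ∀ v : V, (∃ a ∈ lam i, π a = v) ↔ ∃ c : F, v = c • l
  inj : ∀ i, ∀ a ∈ lam i, π a = 0 → a = 1
  ti : ∀ i j, ∀ a ∈ lam i, a ∈ lam j → a ≠ 1 → lam i = lam j
  span : ∀ N : Subgroup M, (∀ i, lam i ≤ N) → ∀ m, m ∈ N
  perm : ∀ (g : H) i, ∃ j, ∀ a ∈ lam i, g • a ∈ lam j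
  trans : ∀ i j, ∃ g : H, ∀ a ∈ lam i, g • a ∈ lam j
  syl : ∀ i, ∀ a ∈ lam i, a ≠ 1 → ¬ 2 ∣ (MulAction.stabilizer H a).index

variable {H : Type*} [Group H] {F : Type*} [Field F] {M V ι : Type*} [Group M] [MulDistribMulAction H M]
  [AddCommGroup V] [Module F V] {π : M → V} {lam : ι → Subgroup M}

/-- `φ` is in the largest `F`-subspace of the transvections with centre `l` -/
def IsTv (H : Type*) [Group H] (F : Type*) [Field F] {M V : Type*} [Group M] [MulDistribMulAction H M]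
    [AddCommGroup V] [Module F V] (π : M → V) (l : Subgroup M) (φ : M → M) : Prop :=
  (∀ m, φ m ∈ l) ∧ (∀ a ∈ l, φ a = 1) ∧ ∀ c : F, ∃ g : H, ∀ m, g • m * m ∈ l ∧ π (g • m * m) = c • π (φ m)

namespace BM

theorem comm (sq : ∀ m : M, m * m = 1) (a b : M) : a * b = b * a := by
  have h1 := sq (a * b)
  have h2 := sq a
  have h3 := sq b
  calc a * b = a * (a * b * (a * b)) * b := by rw [h1, mul_one]
    _ = (a * a) * (b * a) * (b * b) := by group
    _ = b * a := by rw [h2, h3, one_mul, mul_one]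

/-- **TYPE N**, multiplicative form: `φ`, `ψ` are independent transvections with centre `lam i₀` -/
theorem typeN (h : BM H F π lam) [Finite H] [Finite M] {i₀ : ι} {φ ψ : M → M} (hφ : IsTv H F π (lam i₀) φ)
    (hψ : IsTv H F π (lam i₀) ψ) (hψ0 : ∃ m, ψ m ≠ 1) (hind : ∀ c : F, ∃ m, π (φ m) ≠ c • π (ψ m))
    {i : ι} {L : Subgroup H} (hL : IsPGroup 2 L) (hLi : ∀ g ∈ L, ∀ a ∈ lam i, g • a = a)
    (hn : ∀ c : H, (∀ a ∈ lam i, c • a = a) → ∀ g ∈ L, c * g * c⁻¹ ∈ L) {g : H} (hg : g ∈ L) (m : M) :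
    g • m * m ∈ lam i := by
  letI : CommGroup M := { (inferInstance : Group M) with mul_comm := comm h.sq }
  letI : DistribMulAction H (Additive M) :=
    { smul := fun g m => Additive.ofMul (g • m.toMul)
      one_smul := fun m => one_smul H m.toMul
      mul_smul := fun a b m => mul_smul a b m.toMul
      smul_zero := fun g => smul_one (N := M) g
      smul_add := fun g a b => smul_mul' g a.toMul b.toMul }
  let π' : Additive M →+ V := AddMonoidHom.mk' (fun m => π m.toMul) fun a b => h.mul a.toMul b.toMul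
  let lam' : ι → AddSubgroup (Additive M) := fun i => Subgroup.toAddSubgroup (lam i)
  have hB : BF H F π' lam' :=
    { two := fun m => h.sq m.toMul
      lin := h.lin
      line := h.line
      inj := h.inj
      ti := fun i j a ha hb ha0 => by
        show Subgroup.toAddSubgroup (lam i) = Subgroup.toAddSubgroup (lam j)
        rw [h.ti i j a.toMul ha hb ha0]
      span := fun N hN m => h.span (AddSubgroup.toSubgroup' N) (fun i a ha => hN i ha) m.toMul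
      perm := h.perm
      trans := h.trans
      syl := h.syl }
  have hlift : ∀ φ : M → M, IsTv H F π (lam i₀) φ → ∃ φ' : AddMonoid.End (Additive M), φ' ∈ hB.Phi i₀ ∧
      ∀ m : M, (φ' (Additive.ofMul m)).toMul = φ m := by
    rintro φ ⟨h1, h2, h3⟩
    obtain ⟨g, hg⟩ := h3 1
    have e : ∀ m, φ m = g • m * m := by
      intro m
      have h4 : π (φ m * (g • m * m)) = 0 := by
        have h5 : π (φ m * (g • m * m)) = π (φ m) + π (φ m) := by rw [h.mul, (hg m).2, one_smul]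
        rw [h5, ← h.mul, h.sq]
        have h6 := h.mul 1 1
        rw [mul_one] at h6
        simpa using h6
      have h7 := h.inj i₀ _ (mul_mem (h1 m) (hg m).1) h4
      have h8 := h.sq (g • m * m)
      calc φ m = φ m * ((g • m * m) * (g • m * m)) := by rw [h8, mul_one]
        _ = (φ m * (g • m * m)) * (g • m * m) := by rw [← mul_assoc]
        _ = g • m * m := by rw [h7, one_mul]
    have hadd : ∀ a b : M, φ (a * b) = φ a * φ b := by
      intro a b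
      rw [e, e, e, smul_mul']
      calc g • a * g • b * (a * b) = g • a * (g • b * a) * b := by group
        _ = g • a * (a * g • b) * b := by rw [comm h.sq (g • b) a]
        _ = g • a * a * (g • b * b) := by group
    refine ⟨AddMonoidHom.mk' (fun m => Additive.ofMul (φ m.toMul)) fun a b => hadd a.toMul b.toMul, ?_, fun m => rfl⟩
    exact hB.mem_Phi.2 ⟨h1, h2, h3⟩
  obtain ⟨φ', h1, h2⟩ := hlift φ hφ
  obtain ⟨ψ', h3, h4⟩ := hlift ψ hψ
  have hbig := hB.big_of_two h1 h3 (by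
    rintro rfl
    obtain ⟨m, hm⟩ := hψ0
    exact hm (h4 m).symm) (fun c => by
    obtain ⟨m, hm⟩ := hind c
    refine ⟨Additive.ofMul m, fun e => hm ?_⟩
    rw [← h2, ← h4]
    exact e)
  exact hB.typeN ⟨i₀, hbig⟩ (i := i) hL hLi hn hg (Additive.ofMul m)

end BM

open scoped Pointwise

/-- the line vectors `g • lam`, `g ∈ H` -/
structure BO (H : Type*) [Group H] (F : Type*) [Field F] {M V : Type*} [Group M] [MulDistribMulAction H M]
    [AddCommGroup V] [Module F V] (π : M → V) (lam : Subgroup M) : Prop where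
  sq : ∀ m : M, m * m = 1
  mul : ∀ a b : M, π (a * b) = π a + π b
  lin : ∀ g : H, ∃ L : V →ₗ[F] V, ∀ m, π (g • m) = L (π m)
  line : ∃ l : V, l ≠ 0 ∧ ∀ v : V, (∃ a ∈ lam, π a = v) ↔ ∃ c : F, v = c • l
  inj : ∀ a ∈ lam, π a = 0 → a = 1
  ti : ∀ g : H, g • lam ⊓ lam ≠ ⊥ → g • lam = lam
  span : ∀ N : Subgroup M, (∀ g : H, g • lam ≤ N) → ∀ m, m ∈ N
  syl : ∀ a ∈ lam, a ≠ 1 → ¬ 2 ∣ (MulAction.stabilizer H a).index

namespace BO

variable {lam : Subgroup M} (h : BO H F π lam)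
include h

theorem pi_one : π 1 = 0 := by
  have h1 := h.mul 1 1
  rw [mul_one] at h1
  simpa using h1

theorem bm : BM H F π (fun g : H => g • lam) where
  sq := h.sq
  mul := h.mul
  lin := h.lin
  line g := by
    obtain ⟨l, hl0, hl⟩ := h.line
    obtain ⟨A, hA⟩ := h.lin g
    obtain ⟨B, hB⟩ := h.lin g⁻¹
    obtain ⟨a, ha, hal⟩ := (hl l).2 ⟨1, (one_smul F l).symm⟩
    refine ⟨A l, fun e => hl0 ?_, fun v => ⟨?_, ?_⟩⟩
    · have h1 := hB (g • a)
      rw [inv_smul_smul, hA, hal, e, map_zero] at h1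
      exact h1
    · rintro ⟨x, hx, rfl⟩
      rw [Subgroup.mem_pointwise_smul_iff_inv_smul_mem] at hx
      obtain ⟨c, hc⟩ := (hl _).1 ⟨_, hx, rfl⟩
      refine ⟨c, ?_⟩
      rw [← map_smul, ← hc, ← hA, smul_inv_smul]
    · rintro ⟨c, rfl⟩
      obtain ⟨x, hx, hxe⟩ := (hl (c • l)).2 ⟨c, rfl⟩
      exact ⟨g • x, Subgroup.smul_mem_pointwise_smul x g lam hx, by rw [hA, hxe, map_smul]⟩
  inj g a ha ha0 := by
    rw [Subgroup.mem_pointwise_smul_iff_inv_smul_mem] at ha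
    obtain ⟨B, hB⟩ := h.lin g⁻¹
    have h1 := h.inj _ ha (by rw [hB, ha0, map_zero])
    rwa [inv_smul_eq_iff, smul_one] at h1
  ti i j a ha hb ha1 := by
    have h1 : (j⁻¹ * i) • lam = lam := by
      refine h.ti _ fun e => ?_
      have h2 : j⁻¹ • a ∈ (j⁻¹ * i) • lam ⊓ lam := by
        refine ⟨?_, Subgroup.mem_pointwise_smul_iff_inv_smul_mem.1 hb⟩
        rw [mul_smul]
        exact Subgroup.smul_mem_pointwise_smul a j⁻¹ _ ha
      rw [e, Subgroup.mem_bot, inv_smul_eq_iff, smul_one] at h2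
      exact ha1 h2
    rw [mul_smul, inv_smul_eq_iff] at h1
    exact h1
  span := h.span
  perm g i := ⟨g * i, fun a ha => by
    show g • a ∈ (g * i) • lam
    rw [mul_smul]
    exact Subgroup.smul_mem_pointwise_smul a g _ ha⟩
  trans i j := ⟨j * i⁻¹, fun a ha => by
    rw [Subgroup.mem_pointwise_smul_iff_inv_smul_mem] at ha ⊢
    rwa [mul_smul, inv_smul_smul]⟩
  syl i a ha ha1 := by
    rw [Subgroup.mem_pointwise_smul_iff_inv_smul_mem] at ha
    have h1 := h.syl _ ha (fun e => ha1 (by rwa [inv_smul_eq_iff, smul_one] at e))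
    rw [MulAction.index_stabilizer] at h1 ⊢
    rwa [MulAction.orbit_smul] at h1

/-- **TYPE N** for the line vectors `g • lam` -/
theorem typeN [Finite H] [Finite M] {φ ψ : M → M} (hφ : IsTv H F π lam φ) (hψ : IsTv H F π lam ψ)
    (hψ0 : ∃ m, ψ m ≠ 1) (hind : ∀ c : F, ∃ m, π (φ m) ≠ c • π (ψ m)) {L : Subgroup H} (hL : IsPGroup 2 L)
    (hLi : ∀ g ∈ L, ∀ a ∈ lam, g • a = a)
    (hn : ∀ c : H, (∀ a ∈ lam, c • a = a) → ∀ g ∈ L, c * g * c⁻¹ ∈ L) {g : H} (hg : g ∈ L) (m : M) :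
    g • m * m ∈ lam := by
  have e : (1 : H) • lam = lam := one_smul H lam
  have h1 := h.bm.typeN (i₀ := (1 : H)) (i := (1 : H)) (φ := φ) (ψ := ψ) (L := L) (g := g)
  simp only [e] at h1
  exact h1 hφ hψ hψ0 hind hL hLi hn hg m

end BO

end Mul

end Cfsg.Agent.Omega.NO3S.InnS.BigT
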