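import Cfsg.Agent.Omega.NO3S.OneS.Abs
import Cfsg.Agent.Omega.NO3S.OneS.Line
import Cfsg.Agent.Omega.ML.CD

/-!
# THEOREM INNER_s (OMEGA, NO-3S, MidQ, `s ≥ 4`; helper621), frame; K-free

Over the frame `OneS.Fr` of helper49 (SUPERSEDED by `OneS/InnS.lean` of helper49).  `IF lam U As T` : `As` = the exact group `A_*` of the text, `T` = the Sylow
2-subgroup `T_J`.  `Atm As A` : `A` is a minimal exact subgroup of `As`.  `LinS F lam U As T π` : the `F_s`-structure of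
`M / N+`.  END THEOREM: `br As ≤ lam`.
-/

set_option autoImplicit false
set_option maxHeartbeats 400000

namespace Cfsg.Agent.Omega.NO3S.InnS

open Subgroup Cfsg.Agent.ClassTwoFusion.Quad Cfsg.Agent.Omega.NOThree.NoOver Cfsg.Agent.Omega.NO3S.OneS
open scoped Pointwise

variable {H : Type*} [Group H] {M : Type*} [Group M] [MulDistribMulAction H M]

/-- the frame of INNER_s -/
structure IF (lam U : Subgroup M) (As T : Subgroup H) : Prop where
  F : Fr H lam U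
  act : TorAct H lam U ∨ CenAct H lam U
  hA : ∀ a ∈ As, IsBB U a
  hex : fo M As = Nat.card M
  ne : As ≠ ⊥
  bs : ∀ f ∈ As, f ≠ 1 → ∃ h : H, Odd (orderOf h) ∧ f * h * f = h⁻¹ ∧ f • h • lam ≠ h • lam
  wd : ∀ f ∈ As, ∀ h : H, Odd (orderOf h) → f * h * f = h⁻¹ → f • h • lam ≠ h • lam →
    ∀ v ∈ U ⊓ h • U, v ∈ br As ⊔ lam → v ∉ Lam H lam
  pT : IsPGroup 2 T
  nT : ∀ t ∈ T, cj t As = As
  fT : ∀ t ∈ T, ∀ z ∈ lam, t • z = z
  cT : ∀ t ∈ T, ∀ u ∈ U, t • u * u ∈ lam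
  oT : ∀ u ∈ U, u ∉ lam → ∀ z ∈ lam, ∃ t ∈ T, t • u = u * z

/-- `A` is a minimal exact subgroup of `As` -/
structure Atm (M : Type*) [Group M] [MulDistribMulAction H M] (As A : Subgroup H) : Prop where
  le : A ≤ As
  ne : A ≠ ⊥
  ex : fo M A = Nat.card M
  min : ∀ X ≤ A, X ≠ ⊥ → X ≠ A → fo M X < Nat.card M

/-- the `F`-structure of `M / N+` (`π : M → M / N+`) -/
structure LinS (F : Type*) [Field F] {V : Type*} [AddCommGroup V] [Module F V] (lam U : Subgroup M)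
    (As T : Subgroup H) (π : M → V) : Prop where
  mul : ∀ a b : M, π (a * b) = π a + π b
  surj : Function.Surjective π
  inj : ∀ u ∈ U, π u = 0 → u = 1
  lamF : ∃ l : V, l ≠ 0 ∧ ∀ v : V, (∃ z ∈ lam, π z = v) ↔ ∃ c : F, v = c • l
  lin : ∀ g : H, g ∈ As ∨ g ∈ T → ∃ L : V →ₗ[F] V, ∀ m, π (g • m) = L (π m)
  tor : ∀ t ∈ T, ∀ c : F, ∃ t' ∈ T, ∀ u ∈ U, π (t' • u * u) = c • π (t • u * u)

namespace IF

variable {lam U : Subgroup M} {As T : Subgroup H} (h : IF lam U As T)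
include h

/-- the situation `OneS.Sit` of helper49 for an atom -/
theorem sit {A : Subgroup H} (hA : Atm M As A) {f x : H} (hf : f ∈ A) (hodd : Odd (orderOf x))
    (hinv : f * x * f = x⁻¹) (hmov : f • x • lam ≠ x • lam) : Sit lam U A f x where
  F := h.F
  hA a ha := h.hA a (hA.le ha)
  hex := hA.ex
  hmin := hA.min
  hf := hf
  hodd := hodd
  hinv := hinv
  hmov := hmov
  wd v hv hv' := by
    refine h.wd f (hA.le hf) x hodd hinv hmov v hv ?_
    have h1 : (br A : Subgroup M) ≤ br As := br_le fun a ha m => mem_br (hA.le ha) m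
    exact sup_le_sup_right h1 lam hv'

theorem exists_sit {A : Subgroup H} (hA : Atm M As A) {f : H} (hf : f ∈ A) (hf1 : f ≠ 1) :
    ∃ x : H, Sit lam U A f x := by
  obtain ⟨x, h1, h2, h3⟩ := h.bs f (hA.le hf) hf1
  exact ⟨x, h.sit hA hf h1 h2 h3⟩

/-- THEOREM ONE_s of helper49 -/
theorem lam_le [Finite H] [Finite M] {A : Subgroup H} (hA : Atm M As A) : lam ≤ br A := by
  have h1 : ∃ f ∈ A, f ≠ 1 := by
    by_contra hc
    push Not at hc
    exact hA.ne ((eq_bot_iff_forall A).2 hc)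
  obtain ⟨f, hf, hf1⟩ := h1
  obtain ⟨x, S⟩ := h.exists_sit hA hf hf1
  rcases h.act with T | T
  · exact S.lam_le T
  · exact S.lam_le' T

end IF

end Cfsg.Agent.Omega.NO3S.InnS
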