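import Mathlib.GroupTheory.PGroup
import Mathlib.FieldTheory.Finiteness
import Mathlib.LinearAlgebra.FiniteDimensional.Lemmas
import Mathlib.Tactic.LinearCombination
import Mathlib.Tactic.Module

/-!
# THEOREM INNER_s (OMEGA, NO-3S, MidQ, `s ≥ 4`; helper621), part D: (1.8)-(1.10)

A nonsingular pairing `B : A × Y → R`, `|A| = |Y|`, `F`-linear in the second variable, equivariant for a `2`-group `T`
which acts on `R` by transvections with centre `F l` (all of them, for the `F`-scalars too): if `|F| ≥ 4` then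
`B a y ∈ F l` for all `a`, `y`.  Mathlib only.
-/

set_option autoImplicit false
set_option maxHeartbeats 400000

namespace Cfsg.Agent.Omega.NO3S.InnS.Semi

/-- a 2-group acting on a finite additive group of even order fixes a nonzero element -/
theorem exists_fix {T X : Type*} [Group T] [Finite T] (hT : IsPGroup 2 T) [AddCommGroup X] [Finite X]
    (h2 : 2 ∣ Nat.card X) (a : T → X →+ X) (a1 : ∀ x, a 1 x = x) (am : ∀ s t x, a (s * t) x = a s (a t x)) :
    ∃ x : X, x ≠ 0 ∧ ∀ t, a t x = x := by
  let _ : MulAction T X :=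
    { smul := fun t x => a t x
      one_smul := a1
      mul_smul := am }
  obtain ⟨b, hb, hb0⟩ := hT.exists_fixed_point_of_prime_dvd_card_of_fixed_point X h2
    (a := (0 : X)) (fun t => (a t).map_zero)
  exact ⟨b, fun h => hb0 h.symm, fun t => hb t⟩

section

variable {F : Type*} [Field F]

theorem two_dvd_card [CharP F 2] {Y : Type*} [AddCommGroup Y] [Module F Y] [Finite Y] [Nontrivial Y] :
    2 ∣ Nat.card Y := by
  obtain ⟨y, hy⟩ := exists_ne (0 : Y)
  have h1 : addOrderOf y = 2 := by
    refine addOrderOf_eq_prime ?_ hy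
    have : (2 : ℕ) • y = ((2 : ℕ) : F) • y := by rw [Nat.cast_smul_eq_nsmul]
    rw [this, CharP.cast_eq_zero, zero_smul]
  rw [← h1]
  exact addOrderOf_dvd_natCard y

variable {R : Type*} [AddCommGroup R] [Module F R]

/-- an injective map into the line `F l` -/
theorem card_le_of_line [Finite F] {X : Type*} (l : R) (f : X → R) (hf : Function.Injective f)
    (h : ∀ x, ∃ c : F, f x = c • l) : Nat.card X ≤ Nat.card F := by
  choose g hg using h
  refine Nat.card_le_card_of_injective g fun x y hxy => hf ?_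
  rw [hg, hg, hxy]

variable {A Y : Type*} [AddCommGroup A] [AddCommGroup Y] [Module F Y]

theorem inj_left (B : A →+ Y →ₗ[F] R) (nd : ∀ a y, B a y = 0 → a = 0 ∨ y = 0) {y : Y} (hy : y ≠ 0) :
    Function.Injective fun a => B a y := by
  intro a b hab
  have h1 : B (a - b) y = 0 := by
    rw [map_sub, LinearMap.sub_apply]
    exact sub_eq_zero.2 hab
  rcases nd _ _ h1 with h | h
  · exact sub_eq_zero.1 h
  · exact absurd h hy

theorem inj_right (B : A →+ Y →ₗ[F] R) (nd : ∀ a y, B a y = 0 → a = 0 ∨ y = 0) {a : A} (ha : a ≠ 0) :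
    Function.Injective fun y => B a y := by
  intro x y hxy
  have h1 : B a (x - y) = 0 := by
    rw [map_sub]
    exact sub_eq_zero.2 hxy
  rcases nd _ _ h1 with h | h
  · exact absurd h ha
  · exact sub_eq_zero.1 h

/-- (1.10): `|A| ≤ |F|` and `T` is trivial on `Y` -/
theorem small [Finite A] {T : Type*} [Finite F] (B : A →+ Y →ₗ[F] R)
    (aA : T → A →+ A) (aR : T → R →ₗ[F] R) (eq : ∀ t a y, aR t (B a y) = B (aA t a) y) {l : R} (hl : l ≠ 0)
    (orb : ∀ r, (∀ c : F, r ≠ c • l) → ∀ c : F, ∃ t, aR t r = r + c • l) (hc : Nat.card A ≤ Nat.card F) (a : A)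
    (y : Y) : ∃ c : F, B a y = c • l := by
  by_contra hne
  push Not at hne
  -- the elements `u + c l` and `0`
  have h1 : ∀ c : F, ∃ b : A, B b y = B a y + c • l := by
    intro c
    obtain ⟨t, ht⟩ := orb _ hne c
    exact ⟨aA t a, by rw [← eq, ht]⟩
  choose g hg using h1
  have h2 : Function.Injective fun o : Option F => o.elim (0 : A) g := by
    have hg0 : ∀ c, g c ≠ 0 := by
      intro c h
      have h3 := hg c
      rw [h, map_zero, LinearMap.zero_apply] at h3
      exact hne (-c) (by rw [neg_smul]; exact eq_neg_of_add_eq_zero_left h3.symm)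
    have hgi : Function.Injective g := by
      intro c d hcd
      have h3 : c • l = d • l := by
        have h4 := hg c
        rw [hcd, hg d] at h4
        exact (add_left_cancel h4).symm
      exact smul_left_injective F hl h3
    intro o o' h
    rcases o with _ | c <;> rcases o' with _ | d
    · rfl
    · exact absurd h.symm (hg0 d)
    · exact absurd h (hg0 c)
    · exact congrArg some (hgi h)
  have h3 := Nat.card_le_card_of_injective _ h2
  rw [Finite.card_option] at h3
  omega

/-- the last identity of (1.9) -/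
theorem end_identity (h4 : 4 ≤ Nat.card F) {S : F} (hS : S ≠ 0) {l : R} (hl : l ≠ 0) (G : F → R)
    (hG : ∀ c x, G (c * x) = c • G x + (S * (c - c * c) * x) • l) : False := by
  -- an element different from `0` and `1`
  obtain ⟨c, h0, h1⟩ : ∃ c : F, c ≠ 0 ∧ c ≠ 1 := by
    by_contra hne
    push Not at hne
    have hfin : Finite F := Nat.finite_of_card_ne_zero (by omega)
    classical
    have h2 : Function.Injective fun x : F => (if x = 0 then (0 : Fin 2) else 1) := by
      intro x y hxy
      by_cases hx : x = 0 <;> by_cases hy : y = 0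
      · rw [hx, hy]
      · simp [hx, hy] at hxy
      · simp [hx, hy] at hxy
      · rw [hne x hx, hne y hy]
    have h3 := Nat.card_le_card_of_injective _ h2
    rw [Nat.card_fin] at h3
    omega
  have e1 := hG (c * c) 1
  have e2 := hG c c
  have e3 := hG c 1
  rw [mul_one] at e1 e3
  rw [e1, e3] at e2
  have e4 : (S * (c * c * ((c - 1) * (c - 1)))) • l = 0 := by
    have e5 : (S * (c * c * ((c - 1) * (c - 1)))) • l
        = (c • (c • G 1 + (S * (c - c * c) * 1) • l) + (S * (c - c * c) * c) • l)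
          - ((c * c) • G 1 + (S * (c * c - c * c * (c * c)) * 1) • l) := by
      module
    rw [e5, ← e2, sub_self]
  rcases smul_eq_zero.1 e4 with h | h
  · have h1' : c - 1 ≠ 0 := sub_ne_zero.2 h1
    exact (mul_ne_zero hS (mul_ne_zero (mul_ne_zero h0 h0) (mul_ne_zero h1' h1'))) h
  · exact hl h

/-- (1.9): the plane case is impossible -/
theorem plane [Finite F] [Finite A] {T : Type*} [Group T] (h4 : 4 ≤ Nat.card F) (B : A →+ Y →ₗ[F] R)
    (nd : ∀ a y, B a y = 0 → a = 0 ∨ y = 0)
    (aA : T → A →+ A) (aY : T → Y →ₗ[F] Y) (aR : T → R →ₗ[F] R)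
    (yM : ∀ s t x, aY (s * t) x = aY s (aY t x))
    (rM : ∀ s t x, aR (s * t) x = aR s (aR t x)) (ro : ∀ x, aR 1 x = x)
    (eq : ∀ t a y, aR t (B a y) = B (aA t a) (aY t y)) {l : R} (hl : l ≠ 0) (fl : ∀ t, aR t l = l)
    (cl : ∀ t r, ∃ c : F, aR t r - r = c • l)
    (orb : ∀ r, (∀ c : F, r ≠ c • l) → ∀ c : F, ∃ t, aR t r = r + c • l)
    (tor : ∀ t (c : F), ∃ t', ∀ r, aR t' r - r = c • (aR t r - r))
    {y1 y2 : Y} (hy1 : y1 ≠ 0) (σ : T → F) (f1 : ∀ t, aY t y1 = y1) (f2 : ∀ t, aY t y2 = y2 + σ t • y1)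
    (span : ∀ y, ∃ c d : F, y = c • y2 + d • y1) (hY : Nat.card F < Nat.card Y)
    (hA : Nat.card F * Nat.card F ≤ Nat.card A) : False := by
  have il := fun {y : Y} (hy : y ≠ 0) => inj_left B nd hy
  have lc : ∀ {c d : F}, c • l = d • l → c = d := fun h => smul_left_injective F hl h
  -- the additivity of `σ`
  have σm : ∀ s t, σ (s * t) = σ s + σ t := by
    intro s t
    have h1 := yM s t y2
    rw [f2, f2, map_add, map_smul, f1, f2] at h1
    have h2 : σ (s * t) • y1 = (σ s + σ t) • y1 := by
      rw [add_smul]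
      refine add_left_cancel (a := y2) ?_
      rw [h1, add_assoc]
    exact smul_left_injective F hy1 h2
  have σ1 : σ 1 = 0 := by
    have := σm 1 1
    rw [mul_one] at this
    exact left_eq_add.1 this
  -- `σ t = 0` acts trivially
  have k0 : ∀ t, σ t = 0 → ∀ g, aA t g = g := by
    intro t ht g
    have hy : ∀ y, aY t y = y := by
      intro y
      obtain ⟨c, d, rfl⟩ := span y
      rw [map_add, map_smul, map_smul, f1, f2, ht, zero_smul, add_zero]
    by_contra hg
    have h1 : aA t g - g ≠ 0 := sub_ne_zero.2 hg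
    have h2 := card_le_of_line (F := F) l _ (inj_right B nd h1) (fun y => by
      obtain ⟨c, hc⟩ := cl t (B g y)
      refine ⟨c, ?_⟩
      rw [eq, hy] at hc
      rw [← hc, map_sub, LinearMap.sub_apply])
    omega
  have k1 : ∀ t, σ t = 0 → ∀ a y, aR t (B a y) = B a y := by
    intro t ht a y
    have hy : aY t y = y := by
      obtain ⟨c, d, rfl⟩ := span y
      rw [map_add, map_smul, map_smul, f1, f2, ht, zero_smul, add_zero]
    rw [eq, k0 t ht, hy]
  have k2 : ∀ t t', σ t = σ t' → ∀ a y, aR t (B a y) = aR t' (B a y) := by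
    intro t t' h a y
    have h1 : σ (t⁻¹ * t') = 0 := by
      have h2 := σm t⁻¹ t
      rw [inv_mul_cancel, σ1] at h2
      rw [σm, ← h, ← h2]
    have h3 := k1 _ h1 a y
    rw [rM] at h3
    have h4 := congrArg (aR t) h3
    rw [← rM, mul_inv_cancel, ro] at h4
    exact h4.symm
  -- a vector `u = B a y` outside the line
  have hAne : ∃ a : A, a ≠ 0 := by
    have : 1 < Nat.card A := lt_of_lt_of_le (by nlinarith) hA
    have := (Finite.one_lt_card_iff_nontrivial).1 this
    exact exists_ne 0
  obtain ⟨a0, ha0⟩ := hAne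
  obtain ⟨y0, hu⟩ : ∃ y : Y, ∀ c : F, B a0 y ≠ c • l := by
    by_contra hne
    push Not at hne
    have := card_le_of_line (F := F) l _ (inj_right B nd ha0) hne
    omega
  obtain ⟨t0, ht0⟩ := orb _ hu 1
  rw [one_smul] at ht0
  choose p hp using cl t0
  have hpu : aR t0 (B a0 y0) - B a0 y0 = l := by rw [ht0, add_sub_cancel_left]
  choose tc htc using fun c => tor t0 c
  have htc' : ∀ c r, aR (tc c) r = r + (c * p r) • l := by
    intro c r
    have h1 := htc c r
    rw [hp, smul_smul] at h1
    rw [← h1, add_sub_cancel]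
  have padd : ∀ r r', p (r + r') = p r + p r' := by
    intro r r'
    refine lc ?_
    rw [← hp, add_smul, ← hp, ← hp, map_add]
    abel
  have psmul : ∀ (c : F) r, p (c • r) = c * p r := by
    intro c r
    refine lc ?_
    rw [← hp, mul_smul, ← hp, map_smul, smul_sub]
  have pl : p l = 0 := by
    refine lc ?_
    rw [← hp, fl, sub_self, zero_smul]
  have pl' : ∀ c : F, p (c • l) = 0 := fun c => by rw [psmul, pl, mul_zero]
  -- `σ ∘ tc` is bijective
  have hσi : Function.Injective fun c => σ (tc c) := by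
    intro c d h
    have h1 := k2 _ _ h a0 y0
    have h2 := htc c (B a0 y0)
    have h3 := htc d (B a0 y0)
    rw [hpu] at h2 h3
    rw [h1] at h2
    exact lc (h2.symm.trans h3)
  have hσs : Function.Surjective fun c => σ (tc c) := Finite.injective_iff_surjective.1 hσi
  -- `A₁`
  let A1 : Set A := {g | ∃ c : F, B g y1 = c • l}
  have cA1 : Nat.card A1 ≤ Nat.card F := by
    refine card_le_of_line (F := F) l (fun g : A1 => B g.1 y1) ?_ fun g => g.2
    intro g g' h
    exact Subtype.ext (il hy1 h)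
  -- the map `P`
  let P : A →+ F :=
    { toFun := fun g => p (B g y1)
      map_zero' := by
        rw [map_zero, LinearMap.zero_apply]
        simpa using pl' 0
      map_add' := fun g g' => by rw [map_add, LinearMap.add_apply, padd] }
  have Pdef : ∀ g, P g = p (B g y1) := fun g => rfl
  have Pker : ∀ g, P g = 0 → g ∈ A1 := by
    intro g hg
    by_contra hne
    have hne' : ∀ c : F, B g y1 ≠ c • l := fun c hc => hne ⟨c, hc⟩
    obtain ⟨t, ht⟩ := orb _ hne' 1
    obtain ⟨c, hc⟩ := hσs (σ t)
    have h1 := k2 _ _ hc g y1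
    rw [htc', ← Pdef, hg, mul_zero, zero_smul, add_zero, ht, one_smul] at h1
    exact hl (left_eq_add.1 h1)
  have Ps : Function.Surjective P := by
    have h1 : Nat.card P.ker ≤ Nat.card F := by
      refine le_trans ?_ cA1
      refine Nat.card_le_card_of_injective (fun g : P.ker => (⟨g.1, Pker g.1 g.2⟩ : A1)) ?_
      intro g g' h
      exact Subtype.ext (congrArg (fun x : A1 => x.1) h)
    have h2 := P.ker.card_mul_index
    rw [AddSubgroup.index_ker] at h2
    have h3 : Nat.card F ≤ Nat.card P.range := by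
      by_contra hlt
      push Not at hlt
      have h5 : 0 < Nat.card F := by omega
      have : Nat.card P.ker * Nat.card P.range < Nat.card F * Nat.card F :=
        lt_of_le_of_lt (Nat.mul_le_mul_right _ h1) (Nat.mul_lt_mul_of_pos_left hlt h5)
      omega
    rw [← AddMonoidHom.range_eq_top]
    exact AddSubgroup.eq_top_of_le_card _ h3
  -- the elements `gz`
  have hgz : ∀ z : F, ∃ g : A, B g y1 = z • l := by
    intro z
    obtain ⟨g, hg⟩ := Ps z
    refine ⟨aA (tc 1) g - g, ?_⟩
    have h1 := eq (tc 1) g y1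
    rw [htc', f1, ← Pdef, hg, one_mul] at h1
    rw [map_sub, LinearMap.sub_apply, ← h1, add_sub_cancel_left]
  choose gz hgz using hgz
  have rhoc : ∀ c g, aA (tc c) g = g + gz (c * P g) := by
    intro c g
    have h1 := eq (tc c) g y1
    rw [htc', f1, ← Pdef] at h1
    refine il hy1 ?_
    change B _ y1 = B _ y1
    rw [← h1, map_add, LinearMap.add_apply, hgz]
  -- equation for `y2`
  have E : ∀ c g, (c * p (B g y2)) • l
      = σ (tc c) • B g y1 + B (gz (c * P g)) y2 + (σ (tc c) * (c * P g)) • l := by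
    intro c g
    have h1 := eq (tc c) g y2
    rw [htc', rhoc, f2, map_add B, LinearMap.add_apply, map_add, map_add, map_smul, map_smul, hgz] at h1
    have h2 : (c * p (B g y2)) • l = B g y2 + (c * p (B g y2)) • l - B g y2 := by rw [add_sub_cancel_left]
    rw [h2, h1]
    module
  have q1 : ∀ c x, p (B (gz (c * x)) y2) = -(σ (tc c) * x) := by
    intro c x
    obtain ⟨g, rfl⟩ := Ps x
    have h1 := congrArg p (E c g)
    rw [pl', padd, padd, pl', psmul, ← Pdef] at h1
    linear_combination -h1
  have Seq : ∀ c, σ (tc c) = σ (tc 1) * c := by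
    intro c
    have h1 := q1 c 1
    have h2 := q1 1 c
    rw [mul_one, mul_one] at h1
    rw [one_mul] at h2
    linear_combination h1 - h2
  have S0 : σ (tc 1) ≠ 0 := by
    intro h
    have h1 : σ (tc 1) = σ (tc 0) := by rw [Seq 0, mul_zero, h]
    exact one_ne_zero (hσi h1)
  refine end_identity h4 S0 hl (fun z => B (gz z) y2) fun c x => ?_
  obtain ⟨g, rfl⟩ := Ps x
  have e1 := E c g
  have e2 := E 1 g
  rw [Seq c] at e1
  rw [one_mul, one_mul] at e2
  have e3 : (c * p (B g y2)) • l = c • (p (B g y2) • l) := by rw [mul_smul]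
  rw [e2, e1] at e3
  have e4 : B (gz (c * P g)) y2
      = (σ (tc 1) * c) • B g y1 + B (gz (c * P g)) y2 + (σ (tc 1) * c * (c * P g)) • l
        - (σ (tc 1) * c) • B g y1 - (σ (tc 1) * c * (c * P g)) • l := by abel
  change B (gz (c * P g)) y2 = _
  rw [e4, e3]
  module

/-- (1.8)-(1.10) of INNER_s -/
theorem semi [Finite F] [CharP F 2] (h4 : 4 ≤ Nat.card F) [Finite Y] [Nontrivial Y] [Finite A]
    (B : A →+ Y →ₗ[F] R) (nd : ∀ a y, B a y = 0 → a = 0 ∨ y = 0) (hc : Nat.card A = Nat.card Y)
    {T : Type*} [Group T] [Finite T] (hT : IsPGroup 2 T)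
    (aA : T → A →+ A) (aY : T → Y →ₗ[F] Y) (aR : T → R →ₗ[F] R)
    (aM : ∀ s t x, aA (s * t) x = aA s (aA t x)) (ao : ∀ x, aA 1 x = x)
    (yM : ∀ s t x, aY (s * t) x = aY s (aY t x)) (yo : ∀ x, aY 1 x = x)
    (rM : ∀ s t x, aR (s * t) x = aR s (aR t x)) (ro : ∀ x, aR 1 x = x)
    (eq : ∀ t a y, aR t (B a y) = B (aA t a) (aY t y)) {l : R} (hl : l ≠ 0) (fl : ∀ t, aR t l = l)
    (cl : ∀ t r, ∃ c : F, aR t r - r = c • l)
    (orb : ∀ r, (∀ c : F, r ≠ c • l) → ∀ c : F, ∃ t, aR t r = r + c • l)
    (tor : ∀ t (c : F), ∃ t', ∀ r, aR t' r - r = c • (aR t r - r)) (a : A) (y : Y) :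
    ∃ c : F, B a y = c • l := by
  have hY2 : 2 ∣ Nat.card Y := two_dvd_card (F := F)
  obtain ⟨y0, hy0, fy0⟩ := exists_fix hT hY2 (fun t => (aY t).toAddMonoidHom) yo yM
  obtain ⟨g0, hg0, fg0⟩ := exists_fix hT (hc ▸ hY2) aA ao aM
  have fy0' : ∀ t, aY t y0 = y0 := fy0
  by_cases hTY : ∀ t y, aY t y = y
  · have h1 : Nat.card Y ≤ Nat.card F := by
      refine card_le_of_line (F := F) l _ (inj_right B nd hg0) fun y => ?_
      by_contra hne
      push Not at hne
      obtain ⟨t, ht⟩ := orb _ hne 1
      rw [eq, fg0, hTY, one_smul] at ht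
      exact hl (left_eq_add.1 ht)
    exact small B aA aR (fun t a y => by rw [eq, hTY]) hl orb (hc.le.trans h1) a y
  exfalso
  push Not at hTY
  obtain ⟨t1, y', hy'⟩ := hTY
  have hτ : aY t1 y' - y' ≠ 0 := sub_ne_zero.2 hy'
  -- `|A| ≤ s²`
  have c1 : Nat.card A ≤ Nat.card F * Nat.card F := by
    let ρ : A →+ A := aA t1 - AddMonoidHom.id A
    have hρ : ∀ g, ρ g = aA t1 g - g := fun g => rfl
    have h1 : Nat.card ρ.range ≤ Nat.card F := by
      refine card_le_of_line (F := F) l (fun g : ρ.range => B g.1 y0) ?_ ?_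
      · intro g g' h
        exact Subtype.ext (inj_left B nd hy0 h)
      · rintro ⟨x, g, rfl⟩
        obtain ⟨c, hc⟩ := cl t1 (B g y0)
        refine ⟨c, ?_⟩
        rw [eq, fy0'] at hc
        rw [← hc]
        change B (ρ g) y0 = _
        rw [hρ, map_sub, LinearMap.sub_apply]
    have h2 : Nat.card ρ.ker ≤ Nat.card F := by
      refine card_le_of_line (F := F) l (fun g : ρ.ker => B g.1 (aY t1 y' - y')) ?_ ?_
      · intro g g' h
        exact Subtype.ext (inj_left B nd hτ h)
      · rintro ⟨g, hg⟩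
        have hg' : aA t1 g = g := by
          have : ρ g = 0 := hg
          rw [hρ] at this
          exact sub_eq_zero.1 this
        obtain ⟨c, hc⟩ := cl t1 (B g y')
        refine ⟨c, ?_⟩
        rw [eq, hg'] at hc
        change B g (aY t1 y' - y') = _
        rw [← hc, map_sub]
    have h3 := ρ.ker.card_mul_index
    rw [AddSubgroup.index_ker] at h3
    rw [← h3]
    exact Nat.mul_le_mul h2 h1
  have hF1 : 1 < Nat.card F := by omega
  have hcY : Nat.card Y = Nat.card F ^ Module.finrank F Y := Module.natCard_eq_pow_finrank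
  have hfd : FiniteDimensional F Y := Module.Finite.of_finite
  have hd2 : Module.finrank F Y ≤ 2 := by
    have h1 : Nat.card F ^ Module.finrank F Y ≤ Nat.card F ^ 2 := by
      rw [← hcY, ← hc, pow_two]
      exact c1
    exact (Nat.pow_le_pow_iff_right hF1).1 h1
  have hd0 : 0 < Module.finrank F Y := Module.finrank_pos
  have hd1 : Module.finrank F Y ≠ 1 := by
    intro h
    obtain ⟨c, hc'⟩ := exists_smul_eq_of_finrank_eq_one h hy0 y'
    rw [← hc', map_smul, fy0'] at hy'
    exact hy' rfl
  have hd : Module.finrank F Y = 2 := by omega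
  -- the quotient
  let N : Submodule F Y := Submodule.span F {y0}
  have hN : Module.finrank F N = 1 := finrank_span_singleton hy0
  have hQ : Module.finrank F (Y ⧸ N) = 1 := by
    have := N.finrank_quotient_add_finrank
    omega
  have hNt : ∀ t, N ≤ N.comap (aY t) := by
    intro t
    rw [Submodule.span_singleton_le_iff_mem, Submodule.mem_comap, fy0']
    exact Submodule.mem_span_singleton_self y0
  have hQnt : Nontrivial (Y ⧸ N) := Module.nontrivial_of_finrank_pos (R := F) (by omega)
  have hQf : Finite (Y ⧸ N) := Finite.of_surjective _ (Submodule.Quotient.mk_surjective N)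
  obtain ⟨q, hq0, fq⟩ := exists_fix hT (X := Y ⧸ N) (two_dvd_card (F := F))
    (fun t => (N.mapQ N (aY t) (hNt t)).toAddMonoidHom)
    (by
      intro x
      obtain ⟨x, rfl⟩ := Submodule.Quotient.mk_surjective N x
      change Submodule.Quotient.mk (aY 1 x) = _
      rw [yo])
    (by
      intro s t x
      obtain ⟨x, rfl⟩ := Submodule.Quotient.mk_surjective N x
      change Submodule.Quotient.mk (aY (s * t) x) = Submodule.Quotient.mk (aY s (aY t x))
      rw [yM])
  obtain ⟨y2, rfl⟩ := Submodule.Quotient.mk_surjective N q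
  have f2 : ∀ t, ∃ c : F, aY t y2 = y2 + c • y0 := by
    intro t
    have h1 : (Submodule.Quotient.mk (aY t y2) : Y ⧸ N) = Submodule.Quotient.mk y2 := fq t
    rw [Submodule.Quotient.eq, Submodule.mem_span_singleton] at h1
    obtain ⟨c, hc'⟩ := h1
    exact ⟨c, by rw [hc', add_sub_cancel]⟩
  choose σ hσ using f2
  refine plane h4 B nd aA aY aR yM rM ro eq hl fl cl orb tor hy0 σ fy0' hσ ?_ ?_ ?_
  · intro x
    obtain ⟨c, hc'⟩ := exists_smul_eq_of_finrank_eq_one hQ hq0 (Submodule.Quotient.mk x)
    have h1 : (Submodule.Quotient.mk x : Y ⧸ N) = Submodule.Quotient.mk (c • y2) := by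
      rw [← hc']; rfl
    rw [Submodule.Quotient.eq, Submodule.mem_span_singleton] at h1
    obtain ⟨d, hd'⟩ := h1
    exact ⟨c, d, by rw [hd', add_sub_cancel]⟩
  · rw [hcY, hd, pow_two]
    nlinarith
  · rw [hc, hcY, hd, pow_two]

end

end Cfsg.Agent.Omega.NO3S.InnS.Semi
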