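import Cfsg.Agent.Omega.NO3S.OneS.Fat

/-!
# THEOREM INNER_s (OMEGA, NO-3S, MidQ, `s ≥ 4`; #20239 of helper621), part B: (1.4)-(1.6); K-free

`EE lam U A E f x` : the situation `Sit lam U A f x` and an exact group `E` fixing `U` and `V = x • U`.
`f₁ = x * f`, `B = A^f₁ = cj (x * f) A`, `D = U ∩ V`.

* (B1) `EE.comm_mem`, `EE.comm`, `EE.three`;
* (B2) `EE.br_le` : `lam ≤ [M, E]` ⟹ `[M, A] ≤ [M, E]`;
* (B3) `EE.card_le` : `|A| |C_E(B)| ≤ |E|`, `EE.cj_cen` : `C_E(B)^f₁ = C_E(B)`, `EE.cen_iff` : `C_E(B)` is the set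
  of the `e ∈ E` with `[M, e] ≤ D`.
-/

set_option autoImplicit false
set_option maxHeartbeats 400000

namespace Cfsg.Agent.Omega.NO3S.InnS

open Subgroup Cfsg.Agent.ClassTwoFusion.Quad Cfsg.Agent.Omega.NOThree.NoOver Cfsg.Agent.Omega.NO3S.OneS
open scoped Pointwise

variable {H : Type*} [Group H] {M : Type*} [Group M] [MulDistribMulAction H M]

/-- `C_M(g) = C_M(A)` for `1 ≠ g ∈ A` (with `IF.exists_sit`: `reg_of fun _ hg hg1 => h.exists_sit hA hg hg1`) -/
theorem reg_of [Finite H] [Finite M] {lam U : Subgroup M} {A : Subgroup H}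
    (hs : ∀ g ∈ A, g ≠ 1 → ∃ x' : H, Sit lam U A g x') :
    ∀ g ∈ A, g ≠ 1 → ∀ m : M, g • m = m → m ∈ cv M (A : Set H) := by
  intro g hg hg1 m hm
  obtain ⟨x', S'⟩ := hs g hg hg1
  exact S'.cv_f hm

/-- an exact group `E` fixing `U` and `x • U` pointwise, and trivial on `M / U` -/
structure EE (lam U : Subgroup M) (A E : Subgroup H) (f x : H) : Prop where
  S : Sit lam U A f x
  hE : E ≤ KK H S.F.sq U (x • U)
  ex : fo M E = Nat.card M

namespace EE

variable {lam U : Subgroup M} {A E : Subgroup H} {f x : H} (Q : EE lam U A E f x)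
include Q

theorem eU {e : H} (he : e ∈ E) : IsBB U e := (mem_KK.1 (Q.hE he)).1

theorem eV {e : H} (he : e ∈ E) {v : M} (hv : v ∈ x • U) : e • v = v := (mem_KK.1 (Q.hE he)).2 v hv

theorem ee {e : H} (he : e ∈ E) (m : M) : e • e • m = m := by
  rw [← mul_smul, Q.S.F.bb_sq (Q.eU he), one_smul]

/-- `m = m' (m' m)` -/
theorem dec (a b : M) : a = (a * b) * b := by rw [mul_assoc, Q.S.F.sq, mul_one]

theorem yy {y : H} (hy : IsBB (x • U) y) (m : M) : y • y • m = m := by
  have h1 := hy.1 _ (hy.2 m)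
  rw [smul_mul'] at h1
  have h2 : y • y • m = (y • m * m) * y • m := by rw [← h1, mul_assoc, Q.S.F.sq, mul_one]
  rw [h2, Q.S.F.mc (y • m) m, mul_assoc, Q.S.F.sq, mul_one]

theorem yy' {y : H} (hy : IsBB (x • U) y) : y * y = 1 := by
  apply Q.S.F.faith
  intro m
  rw [mul_smul, Q.yy hy]

/-- elements of `C_H(V) ∩ C_H(M/V)` commute -/
theorem V_comm {a b : H} (ha : IsBB (x • U) a) (hb : IsBB (x • U) b) : a * b = b * a := by
  have h1 : IsBB (x • U) (a * b) := (bb H Q.S.F.sq (x • U)).mul_mem ha hb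
  have h2 := Q.yy' h1
  have h3 := Q.yy' ha
  have h4 := Q.yy' hb
  have h5 : (b * a) * (b * a) = 1 := Q.yy' ((bb H Q.S.F.sq (x • U)).mul_mem hb ha)
  calc a * b = (b * b) * (a * b) * (a * a) := by rw [h3, h4, one_mul, mul_one]
    _ = b * ((b * a) * (b * a)) * a := by group
    _ = b * a := by rw [h5, mul_one]

/-- the elements of `E^f₁` -/
theorem e'V {e : H} (he : e ∈ cj (x * f) E) : IsBB (x • U) e := by
  rw [mem_cj] at he
  have h1 := isBB_conj (x * f) (Q.eU he)
  rw [Q.S.f1_U] at h1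
  have h2 : (x * f) * ((x * f)⁻¹ * e * (x * f)) * (x * f)⁻¹ = e := by group
  rwa [h2] at h1

theorem e'U {e : H} (he : e ∈ cj (x * f) E) {u : M} (hu : u ∈ U) : e • u = u := by
  rw [mem_cj] at he
  have h1 := Q.eV he (Q.S.f1_mem_V hu)
  rw [mul_smul, mul_smul, Q.S.f1_f1] at h1
  have h2 := congrArg (fun m => (x * f) • m) h1
  simp only [smul_inv_smul, Q.S.f1_f1] at h2
  exact h2

/-- (B1), commuting -/
theorem comm {e e' : H} (he : e ∈ E) (he' : e' ∈ cj (x * f) E) : e * e' = e' * e := by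
  apply eq_of_mul_inv_eq_one
  apply Q.S.F.faith
  intro m
  have h1 : ∀ m : M, e • e' • m = e' • e • m := by
    intro m
    have h2 : e' • m = (e' • m * m) * m := Q.dec _ _
    have h3 : e • m = (e • m * m) * m := Q.dec _ _
    have h4 : e • e' • m = (e' • m * m) * ((e • m * m) * m) := by
      rw [h2, smul_mul', Q.eV he ((Q.e'V he').2 m), ← h3]
      rw [← h2]
    have h5 : e' • e • m = (e • m * m) * ((e' • m * m) * m) := by
      rw [h3, smul_mul', Q.e'U he' ((Q.eU he).2 m), ← h2]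
      rw [← h3]
    rw [h4, h5, ml Q.S.F.sq]
  have h6 : (e * e' * (e' * e)⁻¹) • m = e • e' • (e' * e)⁻¹ • m := by rw [mul_smul, mul_smul]
  rw [h6, h1, ← mul_smul, ← mul_smul, mul_inv_cancel, one_smul]

variable [Finite H] [Finite M]

omit [Finite H] in
theorem f1_cv : (x * f) • cv M (E : Set H) = cv M (E : Set H) := by
  set C := cv M (E : Set H) with hC
  have hUC : U ≤ C := fun u hu b hb => (Q.eU hb).1 u hu
  have hVC : x • U ≤ C := fun v hv b hb => Q.eV hb hv
  have hfC : f ∈ MulAction.stabilizer H C :=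
    MulAction.mem_stabilizer_iff.2 (Q.S.smul_eq_of fun m _ => hUC ((Q.S.hA f Q.S.hf).2 m))
  have hgC : x * f * x⁻¹ ∈ MulAction.stabilizer H C :=
    MulAction.mem_stabilizer_iff.2 (Q.S.smul_eq_of fun m _ => hVC (Q.S.g_bb.2 m))
  have hhC := Q.S.h_mem _ hfC hgC
  exact MulAction.mem_stabilizer_iff.1 (mul_mem hhC hfC)

/-- the double centraliser -/
theorem KK_eq : KK H Q.S.F.sq U (cv M (E : Set H)) = E := by
  set C := cv M (E : Set H) with hC
  symm
  refine eq_of_le_of_card_ge (fun b hb => mem_KK.2 ⟨Q.eU hb, fun c hc => hc b hb⟩) ?_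
  have h2 := Q.S.F.no (KK H Q.S.F.sq U C) fun x hx => (mem_KK.1 hx).1
  have h3 := Q.ex
  have h4 : Nat.card C ≤ Nat.card (cv M ((KK H Q.S.F.sq U C : Subgroup H) : Set H)) :=
    Subgroup.card_le_of_le fun c hc b hb => (mem_KK.1 hb).2 c hc
  rw [← h3] at h2
  unfold fo at h2
  rw [← hC] at h2
  refine Nat.le_of_mul_le_mul_right (c := Nat.card C) ?_ Nat.card_pos
  exact (Nat.mul_le_mul_left _ h4).trans h2

/-- (B1) : `[E, B] ≤ E^f₁` -/
theorem comm_mem {e y : H} (he : e ∈ E) (hy : y ∈ cj (x * f) A) : y * e * y * e ∈ cj (x * f) E := by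
  set C := cv M (E : Set H) with hC
  have hVC : x • U ≤ C := fun v hv b hb => Q.eV hb hv
  have hyb := Q.S.B_bb hy
  have hyC : ∀ c ∈ C, y • c ∈ C := by
    intro c hc
    rw [Q.dec (y • c) c]
    exact mul_mem (hVC (hyb.2 c)) hc
  have hkV : IsBB (x • U) (y * e * y * e) := by
    refine ⟨fun v hv => ?_, fun m => ?_⟩
    · rw [mul_smul, mul_smul, mul_smul, Q.eV he hv, hyb.1 v hv, Q.eV he hv, hyb.1 v hv]
    · have h2 : y • e • m = (y • e • m * e • m) * e • m := Q.dec _ _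
      have h3 : e • y • e • m = (y • e • m * e • m) * m := by
        rw [h2, smul_mul', Q.eV he (hyb.2 _), Q.ee he]
        rw [← h2]
      have h4 : (y * e * y * e) • m * m = (y • e • m * e • m) * (y • m * m) := by
        rw [mul_smul, mul_smul, mul_smul, h3, smul_mul', hyb.1 _ (hyb.2 _), mul_assoc]
      rw [h4]
      exact mul_mem (hyb.2 _) (hyb.2 _)
  have hkC : ∀ c ∈ C, (y * e * y * e) • c = c := by
    intro c hc
    rw [mul_smul, mul_smul, mul_smul, (hc e he : e • c = c), (hyC c hc e he : e • y • c = y • c), Q.yy hyb]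
  rw [mem_cj, ← Q.KK_eq, mem_KK]
  refine ⟨?_, fun c hc => ?_⟩
  · have h2 := isBB_conj (x * f)⁻¹ hkV
    rw [inv_inv] at h2
    have h3 : (x * f)⁻¹ • x • U = U := by rw [Q.S.f1_inv, Q.S.f1_V]
    rwa [h3] at h2
  · rw [mul_smul, mul_smul]
    have h2 : (x * f) • c ∈ C := by
      rw [hC, ← Q.f1_cv]
      exact smul_mem_pointwise_smul _ _ _ hc
    rw [hkC _ h2, inv_smul_smul]

omit [Finite H] [Finite M] in
/-- `[[m, e], y] = [e y m, [y, e]]` -/
theorem three_eq {e y : H} (he : e ∈ E) (hy : y ∈ cj (x * f) A) (m : M) :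
    y • (e • m * m) * (e • m * m) = (y * e * y * e) • (e • y • m) * (e • y • m) := by
  have hyb := Q.S.B_bb hy
  have h6 : (y * e * y * e) • e • y • m = y • e • m := by
    rw [mul_smul, mul_smul, mul_smul, Q.ee he, Q.yy hyb]
  have h8 : e • y • m = (y • m * m) * e • m := by
    have h9 : y • m = (y • m * m) * m := Q.dec _ _
    rw [h9, smul_mul', Q.eV he (hyb.2 _)]
    rw [← h9]
  rw [h6, h8, smul_mul']
  simp only [mul_assoc]
  rw [Q.S.F.mc (e • m) m]

/-- (B1) : `[[M, E], B] ≤ [M, E]^f₁` -/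
theorem three {r : M} (hr : r ∈ (br E : Subgroup M)) {y : H} (hy : y ∈ cj (x * f) A) :
    y • r * r ∈ (x * f) • (br E : Subgroup M) := by
  unfold br at hr
  induction hr using closure_induction with
  | mem r hr =>
    obtain ⟨e, he, m, rfl⟩ := hr
    rw [Q.three_eq he hy, ← br_cj]
    exact mem_br (Q.comm_mem he hy) _
  | one => rw [smul_one, one_mul]; exact one_mem _
  | mul a b _ _ ha hb =>
    have h2 : y • (a * b) * (a * b) = (y • a * a) * (y • b * b) := by
      rw [smul_mul']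
      simp only [mul_assoc]
      rw [ml Q.S.F.sq a]
    rw [h2]
    exact mul_mem ha hb
  | inv a _ ha => rw [iv Q.S.F.sq]; exact ha

/-- (B2) = (1.5) -/
theorem br_le (hl : lam ≤ (br E : Subgroup M)) : (br A : Subgroup M) ≤ br E := by
  -- `[μ, A] ≤ [M, E]`
  have h1 : ∀ a ∈ A, ∀ z ∈ x • lam, a • z * z ∈ (br E : Subgroup M) := by
    intro a ha z hz
    have h2 := Q.three (hl (Q.S.f1_mem_lam hz)) (Q.S.f1_cj ha)
    rw [← Q.S.f1_im z] at h2
    exact (smul_mem_pointwise_smul_iff).1 h2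
  obtain ⟨z, hz, hz1⟩ := Q.S.exists_mu
  have h2 : (br (cj (x * f) A) : Subgroup M) ≤ (x * f) • (br E : Subgroup M) := by
    refine OneS.br_le fun y hy m => ?_
    obtain ⟨u, hu, c, hc, rfl⟩ := Q.S.r4 m
    obtain ⟨a, ha, d, hd, rfl⟩ := Q.S.r1 hz hz1 hu
    have hyb := Q.S.B_bb hy
    have e1 : y • ((a • z * z) * d * c) * ((a • z * z) * d * c) = y • (a • z * z) * (a • z * z) := by
      rw [smul_mul', smul_mul', hyb.1 d hd.2, (hc y hy : y • c = c)]
      have e2 : ∀ p q d c : M, p * d * c * (q * d * c) = p * q := by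
        intro p q d c
        calc p * d * c * (q * d * c) = p * q * (d * d) * (c * c) := by
              simp only [mul_assoc]
              rw [Q.S.F.mc c (q * (d * c))]
              simp only [mul_assoc]
              rw [ml Q.S.F.sq d q]
          _ = p * q := by rw [Q.S.F.sq, Q.S.F.sq, mul_one, mul_one]
      exact e2 _ _ _ _
    rw [e1]
    exact Q.three (h1 a ha z hz) hy
  rw [br_cj] at h2
  exact (pointwise_smul_le_pointwise_smul_iff).1 h2

omit [Finite H] [Finite M] in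
/-- `x * f ∈ ⟨A, B⟩` -/
theorem f1_mem {K : Subgroup H} (h1 : A ≤ K) (h2 : cj (x * f) A ≤ K) : x * f ∈ K := by
  have hf := h1 Q.S.hf
  refine mul_mem (Q.S.h_mem K hf (h2 ?_)) hf
  rw [mem_cj]
  have e : (x * f)⁻¹ * (x * f * x⁻¹) * (x * f) = f := by group
  rw [e]
  exact Q.S.hf

omit [Finite H] [Finite M] in
/-- `f₁` centralises `C_E(B)` -/
theorem f1_comm {e : H} (he : e ∈ E) (hc : ∀ y ∈ cj (x * f) A, y * e = e * y) : (x * f) * e = e * (x * f) := by
  have h1 : x * f ∈ centralizer ({e} : Set H) := by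
    refine Q.f1_mem ?_ ?_
    · intro a ha
      rw [mem_centralizer_singleton_iff]
      exact Q.S.F.bb_comm (Q.S.hA a ha) (Q.eU he)
    · intro y hy
      rw [mem_centralizer_singleton_iff]
      exact hc y hy
  rwa [mem_centralizer_singleton_iff] at h1

omit [Finite H] [Finite M] in
/-- `C_E(B)^f₁ = C_E(B)` -/
theorem cj_cen : cj (x * f) (E ⊓ centralizer ((cj (x * f) A : Subgroup H) : Set H)) =
    E ⊓ centralizer ((cj (x * f) A : Subgroup H) : Set H) := by
  have hA0 : ∀ e ∈ E ⊓ centralizer ((cj (x * f) A : Subgroup H) : Set H), (x * f) * e = e * (x * f) :=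
    fun e he => Q.f1_comm he.1 fun y hy => mem_centralizer_iff.1 he.2 y hy
  ext e
  rw [mem_cj]
  constructor
  · intro he
    have h1 := hA0 _ he
    have h2 : e = (x * f)⁻¹ * e * (x * f) := by
      have h3 : x * f * ((x * f)⁻¹ * e * (x * f)) = e * (x * f) := by group
      rw [h3] at h1
      exact mul_right_cancel h1
    rw [h2]
    exact he
  · intro he
    have h1 := hA0 _ he
    have h2 : (x * f)⁻¹ * e * (x * f) = e := by
      rw [mul_assoc, ← h1, inv_mul_cancel_left]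
    rw [h2]
    exact he

omit [Finite H] [Finite M] in
/-- an element of `D` fixed by `f₁` : vectors of `U` fixed by `B` -/
theorem mem_D {u : M} (hu : u ∈ U) (hc : ∀ y ∈ cj (x * f) A, y • u = u) : u ∈ U ⊓ x • U := by
  have h1 : f • (x * f) • u = (x * f) • u := by
    have h2 := hc _ (Q.S.f1_cj Q.S.hf)
    rw [mul_smul, mul_smul] at h2
    rw [← Q.S.f1_f1 (f • (x * f) • u), h2]
  have h3 := Q.S.cvf (Q.S.f1_mem_V hu) h1
  have h4 := Q.S.f1_D h3
  rw [Q.S.f1_f1] at h4
  rwa [← h4] at h3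

omit [Finite H] [Finite M] in
/-- `C_E(B)` in terms of `[M, e] ≤ D` -/
theorem cen_iff {e : H} (he : e ∈ E) : (∀ y ∈ cj (x * f) A, y * e = e * y) ↔ ∀ m : M, e • m * m ∈ U ⊓ x • U := by
  constructor
  · intro hc m
    refine Q.mem_D ((Q.eU he).2 m) fun y hy => ?_
    have hyb := Q.S.B_bb hy
    have h1 : y • e • m = e • y • m := by rw [← mul_smul, hc y hy, mul_smul]
    have h2 : y • m = (y • m * m) * m := Q.dec _ _
    rw [smul_mul', h1]
    rw [h2, smul_mul', Q.eV he (hyb.2 m)]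
    calc (y • m * m) * e • m * ((y • m * m) * m) = (y • m * m) * ((y • m * m) * (e • m * m)) := by
          simp only [mul_assoc]
          rw [ml Q.S.F.sq (e • m)]
          rw [ml Q.S.F.sq (e • m) m]
      _ = e • m * m := aa Q.S.F.sq _ _
  · intro hD y hy
    have hyb := Q.S.B_bb hy
    apply eq_of_mul_inv_eq_one
    apply Q.S.F.faith
    intro m
    have h1 : ∀ m : M, y • e • m = e • y • m := by
      intro m
      have h2 : e • m = (e • m * m) * m := Q.dec _ _
      have h3 : y • m = (y • m * m) * m := Q.dec _ _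
      have h4 : y • e • m = (e • m * m) * ((y • m * m) * m) := by
        rw [h2, smul_mul', hyb.1 _ (hD m).2, ← h3]
        rw [← h2]
      have h5 : e • y • m = (y • m * m) * ((e • m * m) * m) := by
        rw [h3, smul_mul', Q.eV he (hyb.2 m), ← h2]
        rw [← h3]
      rw [h4, h5, ml Q.S.F.sq]
    have h6 : (y * e * (e * y)⁻¹) • m = y • e • (e * y)⁻¹ • m := by rw [mul_smul, mul_smul]
    rw [h6, h1, ← mul_smul, ← mul_smul, mul_inv_cancel, one_smul]

omit [Finite H] [Finite M] in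
theorem two_V {y : H} (hy : IsBB (x • U) y) {g : H} (hg : y • g • lam = g • lam) {v : M} (hv : v ∈ g • lam) :
    y • v = v := by
  have h1 := isBB_conj (x * f)⁻¹ hy
  rw [inv_inv] at h1
  have h2 : (x * f)⁻¹ • x • U = U := by rw [Q.S.f1_inv, Q.S.f1_V]
  rw [h2] at h1
  have h3 : ((x * f)⁻¹ * y * (x * f)) • ((x * f)⁻¹ * g) • lam = ((x * f)⁻¹ * g) • lam := by
    rw [← mul_smul]
    have : (x * f)⁻¹ * y * (x * f) * ((x * f)⁻¹ * g) = (x * f)⁻¹ * (y * g) := by group
    rw [this, mul_smul, mul_smul, hg, ← mul_smul]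
  have h4 := Q.S.F.two _ h1 _ h3 ((x * f)⁻¹ • v) (by
    rw [mul_smul]
    exact smul_mem_pointwise_smul _ _ _ hv)
  rw [mul_smul, mul_smul, smul_inv_smul] at h4
  exact smul_left_cancel _ h4

/-- `[u, y] ∈ D` only for `[u, y] = 1` -/
theorem bij {u : M} (hu : u ∈ U) {y : H} (hy : y ∈ cj (x * f) A) (hd : y • u * u ∈ U ⊓ x • U) : y • u = u := by
  obtain ⟨z, hz, hz1⟩ := Q.S.exists_mu
  obtain ⟨a, ha, d, hdD, rfl⟩ := Q.S.r1 hz hz1 hu
  have hyb := Q.S.B_bb hy
  have hyd : y • d = d := hyb.1 d hdD.2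
  have hyz : y • z = z := hyb.1 z (Q.S.mu_le hz)
  have hab := Q.S.hA a ha
  have e1 : y • ((a • z * z) * d) * ((a • z * z) * d) = y • a • z * a • z := by
    rw [phi_mul Q.S.F.sq, hyd, Q.S.F.sq, mul_one, phi_mul Q.S.F.sq, hyz, Q.S.F.sq, mul_one]
  rw [e1] at hd
  set v := y • a • z * a • z with hv
  by_cases hv1 : v = 1
  · rw [smul_mul', smul_mul', hyd, hyz, eqm Q.S.F.sq hv1]
  exfalso
  have h1 : a • z ∈ (a * x) • lam := by
    rw [mul_smul]
    exact smul_mem_pointwise_smul _ _ _ hz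
  have h2 : y • a • z ∈ (y * (a * x)) • lam := by
    rw [mul_smul]
    exact smul_mem_pointwise_smul _ _ _ h1
  have haU : (a * x) • lam ≤ (a * x) • U := smul_mono_right _ Q.S.F.le
  have hvU : v ∈ (a * x) • U := by
    rw [mul_smul, ← hab.1 v hd.1]
    exact smul_mem_pointwise_smul _ _ _ hd.2
  have h3 : y • a • z = v * a • z := by rw [hv, mul_assoc, Q.S.F.sq, mul_one]
  have h4 : y • a • z ∈ (a * x) • U := by
    rw [h3]
    exact mul_mem hvU (haU h1)
  have haz1 : a • z ≠ 1 := by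
    intro hc
    apply hz1
    rw [smul_eq_iff_eq_inv_smul, smul_one] at hc
    exact hc
  have hyaz1 : y • a • z ≠ 1 := by
    intro hc
    apply haz1
    rw [smul_eq_iff_eq_inv_smul, smul_one] at hc
    exact hc
  have hnot : (y * (a * x)) • lam ≠ (a * x) • lam := by
    intro hc
    apply hv1
    rw [mul_smul] at hc
    rw [hv, Q.two_V hyb hc h1, Q.S.F.sq]
  have h5 := Q.S.F.coll' hnot h2 h4 hyaz1 (mul_mem (mem_sup_left h2) (mem_sup_right h1)) hv1
  refine Q.S.wd v hd (mem_sup_left ?_) h5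
  have h6 : v ∈ (x * f) • (br A : Subgroup M) := by
    rw [← br_cj]
    exact mem_br hy _
  rw [← Q.S.f1_D hd] at h6
  exact (smul_mem_pointwise_smul_iff).1 h6

omit [Finite H] [Finite M] in
/-- `C_U(y) = D` for `y ∈ B`, `y ≠ 1` -/
theorem mem_D_of_fix (hreg : ∀ g ∈ A, g ≠ 1 → ∀ m : M, g • m = m → m ∈ cv M (A : Set H)) {u : M} (hu : u ∈ U)
    {y : H} (hy : y ∈ cj (x * f) A) (hy1 : y ≠ 1) (hyu : y • u = u) : u ∈ U ⊓ x • U := by
  have h1 : (x * f) * y * (x * f) ≠ 1 := by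
    intro hc
    apply hy1
    have h2 : y = (x * f)⁻¹ * ((x * f) * y * (x * f)) * (x * f)⁻¹ := by group
    rw [h2, hc, mul_one, ← mul_inv_rev, Q.S.f1_sq, inv_one]
  have h2 : ((x * f) * y * (x * f)) • (x * f) • u = (x * f) • u := by
    rw [mul_smul, mul_smul, Q.S.f1_f1, hyu]
  have h3 := hreg _ (Q.S.f1_cj' hy) h1 _ h2
  refine Q.mem_D hu fun y' hy' => ?_
  have h4 := h3 _ (Q.S.f1_cj' hy')
  rw [mul_smul, mul_smul, Q.S.f1_f1] at h4
  rw [← Q.S.f1_f1 (y' • u), h4, Q.S.f1_f1]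

/-- the homomorphism `y ↦ [y, d]` from `B` to `E^f₁` -/
def kk {d : H} (hd : d ∈ E) : cj (x * f) A →* H where
  toFun y := y * d * y * d
  map_one' := by
    change (1 : H) * d * 1 * d = 1
    rw [one_mul, mul_one, Q.S.F.bb_sq (Q.eU hd)]
  map_mul' := by
    rintro ⟨y, hy⟩ ⟨y', hy'⟩
    change y * y' * d * (y * y') * d = (y * d * y * d) * (y' * d * y' * d)
    have h1 : y * y' = y' * y := Q.V_comm (Q.S.B_bb hy) (Q.S.B_bb hy')
    have h2 : d * d = 1 := Q.S.F.bb_sq (Q.eU hd)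
    have h3 := Q.V_comm (Q.S.B_bb hy) (Q.e'V (Q.comm_mem hd hy'))
    have h4 := Q.V_comm (Q.e'V (Q.comm_mem hd hy)) (Q.e'V (Q.comm_mem hd hy'))
    rw [h4]
    calc y * y' * d * (y * y') * d = y * y' * d * (y' * y) * d := by rw [h1]
      _ = y * (y' * d * y' * (d * d) * y * d) := by
          rw [h2]
          group
      _ = y * (y' * d * y' * d) * (d * y * d) := by group
      _ = (y' * d * y' * d) * (y * d * y * d) := by
          rw [h3]
          group

theorem kk_apply {d : H} (hd : d ∈ E) (y : cj (x * f) A) : Q.kk hd y = y * d * y * d := rfl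

/-- (B3) = (1.6) -/
theorem card_le (hreg : ∀ g ∈ A, g ≠ 1 → ∀ m : M, g • m = m → m ∈ cv M (A : Set H))
    (hl : lam ≤ (br E : Subgroup M)) :
    Nat.card A * Nat.card (E ⊓ centralizer ((cj (x * f) A : Subgroup H) : Set H) : Subgroup H) ≤ Nat.card E := by
  set B := cj (x * f) A with hB
  set A0 := E ⊓ centralizer (B : Set H) with hA0
  have hmem : ∀ e, e ∈ A0 ↔ e ∈ E ∧ ∀ m : M, e • m * m ∈ U ⊓ x • U := by
    intro e
    constructor
    · intro he
      exact ⟨he.1, (Q.cen_iff he.1).1 fun y hy => mem_centralizer_iff.1 he.2 y hy⟩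
    · rintro ⟨he, h2⟩
      exact ⟨he, mem_centralizer_iff.2 fun y hy => (Q.cen_iff he).2 h2 y hy⟩
  obtain ⟨d, hd, hd'⟩ : ∃ d ∈ E, d ∉ A0 := by
    by_contra hcon
    push Not at hcon
    have h1 : (br E : Subgroup M) ≤ U ⊓ x • U := OneS.br_le fun e he m => ((hmem e).1 (hcon e he)).2 m
    obtain ⟨z, hz, hz1⟩ := Q.S.F.exists_ne
    exact hz1 (Q.S.lam_D hz (h1 (hl hz)))
  have hinj : ∀ y : B, Q.kk hd y ∈ A0 → y = 1 := by
    rintro ⟨y, hy⟩ hk
    by_contra hy1
    have hy1' : y ≠ 1 := fun hc => hy1 (Subtype.ext hc)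
    apply hd'
    rw [hmem]
    refine ⟨hd, fun m => ?_⟩
    refine Q.mem_D_of_fix hreg ((Q.eU hd).2 m) hy hy1' (Q.bij ((Q.eU hd).2 m) hy ?_)
    rw [Q.three_eq hd hy]
    exact ((hmem _).1 hk).2 _
  have h1 : (Q.kk hd).ker = ⊥ := by
    rw [eq_bot_iff_forall]
    intro y hy
    apply hinj
    rw [MonoidHom.mem_ker.1 hy]
    exact one_mem _
  have h2 : Nat.card (Q.kk hd).range = Nat.card A := by
    have h3 := Subgroup.index_ker (Q.kk hd)
    rw [h1, index_bot] at h3
    rw [← h3]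
    exact card_cj _ _
  have h3 : (Q.kk hd).range ≤ cj (x * f) E := by
    rintro _ ⟨y, rfl⟩
    exact Q.comm_mem hd y.2
  have h4 : A0 ≤ cj (x * f) E := by
    have h5 : cj (x * f) A0 = A0 := Q.cj_cen
    rw [← h5]
    exact cj_mono inf_le_left
  have h5 : (Q.kk hd).range ≤ normalizer (A0 : Set H) := by
    intro k hk
    have hc : ∀ y ∈ A0, k * y * k⁻¹ = y := fun y hy => by
      rw [Q.V_comm (Q.e'V (h3 hk)) (Q.e'V (h4 hy)), mul_inv_cancel_right]
    rw [mem_normalizer_iff]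
    intro y
    constructor
    · intro hy
      rw [hc y hy]
      exact hy
    · intro hy
      have h6 : k * k = 1 := Q.yy' (Q.e'V (h3 hk))
      have h7 := hc _ hy
      have h8 : k⁻¹ = k := inv_eq_of_mul_eq_one_right h6
      have h9 : k * (k * y * k⁻¹) * k⁻¹ = y := by
        rw [h8]
        calc k * (k * y * k) * k = (k * k) * y * (k * k) := by group
          _ = y := by rw [h6, one_mul, mul_one]
      rw [h9] at h7
      rw [h7]
      exact hy
  have h6 := card_sup_mul (Q.kk hd).range A0 h5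
  have h7 : (Q.kk hd).range ⊓ A0 = ⊥ := by
    rw [eq_bot_iff_forall]
    rintro _ ⟨⟨y, rfl⟩, hy⟩
    rw [hinj y hy, map_one]
  rw [h7, card_bot, mul_one, h2] at h6
  rw [← h6, ← card_cj (x * f) E]
  exact Subgroup.card_le_of_le (sup_le h3 h4)

end EE

end Cfsg.Agent.Omega.NO3S.InnS
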